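import Cfsg.Agent.OmegaSevenMult.CoverTables

/-! The kernel checks on the lifts of two generators of the triple cover. -/

set_option autoImplicit false
set_option Elab.async false
set_option maxRecDepth 100000

namespace CfsgLib.OmegaSevenMult

theorem lift_ok0 : liftOK 0 = true := by decide +kernel

theorem lift_ok1 : liftOK 1 = true := by decide +kernel

theorem graph_ok : graphOK = true := by decide +kernel

theorem pair_ok : pairOK = true := by decide +kernel

end CfsgLib.OmegaSevenMult
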