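import Cfsg.Agent.OmegaSevenMult.CoverTables

/-! The kernel checks on the lifts of two generators of the triple cover. -/

set_option autoImplicit false
set_option Elab.async false
set_option maxRecDepth 100000

namespace CfsgLib.OmegaSevenMult

theorem lift_ok4 : liftOK 4 = true := by decide +kernel

theorem lift_ok5 : liftOK 5 = true := by decide +kernel

end CfsgLib.OmegaSevenMult
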