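import Cfsg.Agent.OmegaSevenMult.Group
import Cfsg.Agent.OmegaSevenMult.CoverChecksA
import Cfsg.Agent.OmegaSevenMult.CoverChecksB
import Cfsg.Agent.OmegaSevenMult.CoverChecksC
import Cfsg.Prelude.Def_KGroupFacts
import Mathlib.Data.Fintype.Prod

/-!
# The triple cover of the seven dimensional orthogonal group over three elements

Pairs of an element and a permutation of fibres of order three over 378 points preserving voltages.
-/

set_option autoImplicit false
set_option linter.style.haveILetI false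

namespace CfsgLib.OmegaSevenMult

open Matrix CfsgLib.OmegaSeven
open CfsgLib.Schur.Pc (ev)
open scoped commutatorElement

/-- The fibred points. -/
abbrev FP : Type := Fin 378 × ZMod 3

/-- The vector of a point. -/
def pvec (i : ℕ) : I7 → ZMod 3 := vecR (ptRow i)

/-- An element with a shift function preserving the voltages. -/
def Good (g : G7) (π : Equiv.Perm FP) : Prop :=
  (∀ i a, π (i, a) = ((π (i, 0)).1, (π (i, 0)).2 + a)) ∧
    (∀ i : Fin 378, pvec (π (i, 0)).1.1 ᵥ* toM g = pvec i.1 ∨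
      pvec (π (i, 0)).1.1 ᵥ* toM g = -pvec i.1) ∧
    ∀ i j : Fin 378, volt i.1 j.1 ≠ 0 → volt (π (i, 0)).1.1 (π (j, 0)).1.1 ≠ 0 ∧
      (volt (π (i, 0)).1.1 (π (j, 0)).1.1 : ZMod 3) + (π (i, 0)).2 =
        (volt i.1 j.1 : ZMod 3) + (π (j, 0)).2

theorem good_one : Good 1 1 :=
  ⟨fun i a => by simp, fun i => Or.inl (by simp), fun i j h => ⟨h, by simp⟩⟩

theorem good_mul {g h : G7} {π ρ : Equiv.Perm FP} (hg : Good g π) (hh : Good h ρ) :
    Good (g * h) (π * ρ) := by
  obtain ⟨g1, g2, g3⟩ := hg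
  obtain ⟨h1, h2, h3⟩ := hh
  have key : ∀ i a, (π * ρ) (i, a) =
      ((π ((ρ (i, 0)).1, 0)).1, (π ((ρ (i, 0)).1, 0)).2 + ((ρ (i, 0)).2 + a)) := fun i a => by
    rw [Equiv.Perm.mul_apply, h1, g1]
  refine ⟨fun i a => ?_, fun i => ?_, fun i j hij => ?_⟩
  · rw [key, key i 0, add_zero, add_assoc]
  · rw [key, map_mul, ← Matrix.vecMul_vecMul]
    rcases g2 (ρ (i, 0)).1 with e | e <;> rcases h2 i with f | f <;>
      simp only [e, f, Matrix.neg_vecMul, neg_neg, true_or, or_true]
  · obtain ⟨e1, e2⟩ := h3 i j hij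
    obtain ⟨f1, f2⟩ := g3 _ _ e1
    rw [key, key]
    refine ⟨f1, ?_⟩
    simp only [add_zero]
    linear_combination f2 + e2

/-- The cover. -/
def triple : Subgroup (G7 × Equiv.Perm FP) where
  carrier := {y | Good y.1 y.2}
  one_mem' := good_one
  mul_mem' ha hb := good_mul ha hb
  inv_mem' := by
    intro y hy
    haveI : Finite G7 := Finite.of_injective _ toM_injective
    have hpow : ∀ n : ℕ, Good (y ^ n).1 (y ^ n).2 := by
      intro n
      induction n with
      | zero => exact good_one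
      | succ n ih => rw [pow_succ]; exact good_mul ih hy
    obtain ⟨n, hn⟩ : ∃ n : ℕ, y ^ n = y⁻¹ := by
      have : y⁻¹ ∈ Subgroup.zpowers y := inv_mem (Subgroup.mem_zpowers y)
      rw [← mem_powers_iff_mem_zpowers, Submonoid.mem_powers_iff] at this
      exact this
    exact hn ▸ hpow n

/-- The projection. -/
noncomputable def proj3 : ↥triple →* G7 := (MonoidHom.fst _ _).comp triple.subtype

set_option maxRecDepth 8000 in
theorem graph_facts : pts.length = 378 ∧ (∀ r ∈ pts, okR r = true) ∧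
    ((pts ++ pts.map negRow).map keyR).Nodup ∧
    ∀ i, i < 378 → i ≠ 0 → upPt i < 378 ∧ volt i (upPt i) ≠ 0 ∧ depPt (upPt i) < depPt i := by
  have h := graph_ok
  simp only [graphOK, Bool.and_eq_true, List.all_eq_true, List.mem_range, Bool.or_eq_true,
    Bool.not_eq_true'] at h
  obtain ⟨⟨⟨h1, h2⟩, h3⟩, h4⟩ := h
  refine ⟨Nat.eq_of_beq_eq_true h1, h2, (CoverTab.nodupMask_sound _ _ h3).1, fun i hi h0 => ?_⟩
  obtain ⟨⟨u1, u2⟩, u3⟩ := (h4 i hi).resolve_left fun e => h0 (Nat.eq_of_beq_eq_true e)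
  refine ⟨Nat.le_of_ble_eq_true u1, fun e => ?_, Nat.le_of_ble_eq_true u3⟩
  rw [e] at u2
  exact Bool.noConfusion u2

theorem ptRow_eq {i : ℕ} (hi : i < 378) :
    ptRow i = pts[i]'(graph_facts.1.symm ▸ hi) :=
  List.getD_eq_getElem _ _ _

theorem okR_ptRow {i : ℕ} (hi : i < 378) : okR (ptRow i) = true := by
  rw [ptRow_eq hi]; exact graph_facts.2.1 _ (List.getElem_mem _)

theorem vecR_negRow {r : Row} (hr : okR r = true) : vecR (negRow r) = -vecR r := by
  funext q
  have h := okR_iff.1 hr (pos q)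
  simp only [vecR, negRow, rowVal, Pi.neg_apply]
  exact (by decide : ∀ a b : Bool, (a && b) = false →
    (if b = true then (1 : ZMod 3) else if a = true then 2 else 0) =
      -(if a = true then 1 else if b = true then 2 else 0)) _ _ h

theorem pvec_inj {i j : Fin 378} (h : pvec i.1 = pvec j.1 ∨ pvec i.1 = -pvec j.1) : i = j := by
  obtain ⟨hlen, -, hnd, -⟩ := graph_facts
  have hk : ∀ a (ha : a < 378), ((pts ++ pts.map negRow).map keyR)[a]'(by simp [hlen]; omega) =
      keyR (ptRow a) := fun a ha => by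
    rw [List.getElem_map, List.getElem_append_left (hlen.symm ▸ ha), ptRow_eq ha]
  have hk' : ∀ a (ha : a < 378), ((pts ++ pts.map negRow).map keyR)[378 + a]'(by simp [hlen]; omega) =
      keyR (negRow (ptRow a)) := fun a ha => by
    rw [List.getElem_map, List.getElem_append_right (by omega), List.getElem_map, ptRow_eq ha]
    simp [hlen]
  rcases h with h | h
  · have e : keyR (ptRow i.1) = keyR (ptRow j.1) := by rw [← keyV_vecR, ← keyV_vecR]; exact congrArg keyV h
    rw [← hk _ i.2, ← hk _ j.2] at e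
    exact Fin.ext (hnd.getElem_inj_iff.1 e)
  · have e : keyR (ptRow i.1) = keyR (negRow (ptRow j.1)) := by
      rw [← keyV_vecR, ← keyV_vecR, vecR_negRow (okR_ptRow j.2)]; exact congrArg keyV h
    rw [← hk _ i.2, ← hk' _ j.2] at e
    have := hnd.getElem_inj_iff.1 e
    omega

theorem liftOK_all : ∀ k < 6, liftOK k = true := by
  intro k hk
  rcases (by omega : k = 0 ∨ k = 1 ∨ k = 2 ∨ k = 3 ∨ k = 4 ∨ k = 5) with
    rfl | rfl | rfl | rfl | rfl | rfl
  exacts [lift_ok0, lift_ok1, lift_ok2, lift_ok3, lift_ok4, lift_ok5]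

theorem exists_lift (k : ℕ) (hk : k < 6) : ∃ y : ↥triple, proj3 y = x k ∧
    ∀ (i : Fin 378) a, (y.1.2 (i, a)).1.1 = imgI k i ∧ (y.1.2 (i, a)).2 = (shI k i : ZMod 3) + a := by
  have h := liftOK_all k hk
  simp only [liftOK, liftAt, force7_eq, List.all_eq_true, List.mem_range, Bool.and_eq_true,
    Bool.or_eq_true, beq_iff_eq] at h
  let P : Fin 378 → Fin 378 := fun i => ⟨imgI k i.1, Nat.le_of_ble_eq_true (h i.1 i.2).1.1⟩
  have hvec : ∀ i : Fin 378, pvec (P i).1 ᵥ* toM (x k) = pvec i.1 ∨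
      pvec (P i).1 ᵥ* toM (x k) = -pvec i.1 := by
    intro i
    rw [pvec, x, toM_elem (el_mat k), ← vecR_combo _ (el_mat k).1]
    rcases (h i.1 i.2).1.2 with e | e
    · exact Or.inl (congrArg vecR e)
    · exact Or.inr (by rw [congrArg vecR e, vecR_negRow (okR_ptRow i.2)]; rfl)
  have hP : Function.Injective P := fun i j he => by
    apply pvec_inj
    rcases hvec i with e | e <;> rcases hvec j with f | f <;> rw [he] at e <;>
      have g := e.symm.trans f
    · exact Or.inl g
    · exact Or.inr g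
    · exact Or.inr (neg_eq_iff_eq_neg.1 g)
    · exact Or.inl (neg_inj.1 g)
  let f : FP → FP := fun p => (P p.1, (shI k p.1.1 : ZMod 3) + p.2)
  have hf : Function.Injective f := by
    rintro ⟨i, a⟩ ⟨j, b⟩ he
    simp only [f, Prod.mk.injEq] at he
    obtain rfl := hP he.1
    rw [add_left_cancel he.2]
  let π : Equiv.Perm FP := Equiv.ofBijective f (Finite.injective_iff_bijective.mp hf)
  refine ⟨⟨(x k, π), fun i a => ?_, hvec, fun i j hij => ?_⟩, rfl, fun i a => ⟨rfl, rfl⟩⟩
  · change f (i, a) = ((f (i, 0)).1, (f (i, 0)).2 + a)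
    simp [f]
  · have h2 := (h i.1 i.2).2 j.1 j.2
    rw [show Nat.beq (Nat.mod (Nat.shiftRight (volts.getD i.1 0) (Nat.mul 2 j.1)) 4) 0 = false from
      Bool.eq_false_iff.2 fun e => hij (Nat.eq_of_beq_eq_true e), cond_false, Bool.and_eq_true,
      Bool.not_eq_true'] at h2
    refine ⟨fun e => ?_, ?_⟩
    · have e' : volt (P i).1 (P j).1 = 0 := e
      have h3 := h2.1
      rw [show Nat.mod (Nat.shiftRight (volts.getD (imgI k i.1) 0) (Nat.mul 2 (imgI k j.1))) 4 = 0
        from e'] at h3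
      exact Bool.noConfusion h3
    · change (volt (P i).1 (P j).1 : ZMod 3) + ((shI k i.1 : ZMod 3) + 0) =
        (volt i.1 j.1 : ZMod 3) + ((shI k j.1 : ZMod 3) + 0)
      rw [add_zero, add_zero, ← Nat.cast_add, ← Nat.cast_add]
      exact (ZMod.natCast_eq_natCast_iff' _ _ 3).2 (Nat.eq_of_beq_eq_true h2.2)

theorem proj3_surjective : Function.Surjective proj3 := by
  rw [← MonoidHom.range_eq_top, eq_top_iff, ← gen6_eq_top, gen6, Subgroup.closure_le]
  rintro _ ⟨k, hk, rfl⟩
  obtain ⟨y, hy, -⟩ := exists_lift k hk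
  exact ⟨y, hy⟩

/-- A uniform shift. -/
def shiftPerm (c : ZMod 3) : Equiv.Perm FP := (Equiv.refl _).prodCongr (Equiv.addRight c)

theorem shiftPerm_apply (c : ZMod 3) (p : FP) : shiftPerm c p = (p.1, p.2 + c) := rfl

theorem good_shift (c : ZMod 3) : Good 1 (shiftPerm c) := by
  refine ⟨fun i a => ?_, fun i => Or.inl ?_, fun i j h => ⟨h, ?_⟩⟩
  · simp [shiftPerm_apply, add_comm]
  · simp [shiftPerm_apply]
  · simp [shiftPerm_apply]

/-- The central element. -/
noncomputable def shift1 : ↥triple := ⟨(1, shiftPerm 1), good_shift 1⟩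

theorem shift1_pow (n : ℕ) : (shift1 ^ n).1.2 = shiftPerm (n : ZMod 3) := by
  induction n with
  | zero => exact Equiv.ext fun p => by simp [shiftPerm_apply]
  | succ n ih =>
    rw [pow_succ, Subgroup.coe_mul, Prod.snd_mul, ih]
    refine Equiv.ext fun p => ?_
    simp only [shift1, Equiv.Perm.mul_apply, shiftPerm_apply, Nat.cast_add, Nat.cast_one]
    rw [Prod.mk.injEq]
    exact ⟨rfl, by ring⟩

theorem mem_ker_proj3 {y : ↥triple} (hy : y ∈ proj3.ker) : ∃ n : ℕ, shift1 ^ n = y := by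
  have hg : y.1.1 = 1 := hy
  obtain ⟨h1, h2, h3⟩ := y.2
  have hfst : ∀ i, (y.1.2 (i, 0)).1 = i := fun i => pvec_inj (by
    rcases h2 i with e | e <;> rw [hg, map_one, Matrix.vecMul_one] at e
    · exact Or.inl e
    · exact Or.inr e)
  have hedge : ∀ i j : Fin 378, volt i.1 j.1 ≠ 0 → (y.1.2 (i, 0)).2 = (y.1.2 (j, 0)).2 := by
    intro i j hij
    obtain ⟨-, e⟩ := h3 i j hij
    rw [hfst, hfst] at e
    exact add_left_cancel e
  have hconst : ∀ d (i : Fin 378), depPt i.1 = d →
      (y.1.2 (i, 0)).2 = (y.1.2 (⟨0, by norm_num⟩, 0)).2 := by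
    intro d
    induction d using Nat.strong_induction_on with
    | _ d ih =>
      intro i hi
      by_cases h0 : i.1 = 0
      · rw [show i = (⟨0, by norm_num⟩ : Fin 378) from Fin.ext h0]
      · obtain ⟨hu, hv, hd⟩ := graph_facts.2.2.2 i.1 i.2 h0
        rw [hedge i ⟨upPt i.1, hu⟩ hv]
        exact ih _ (hi ▸ hd) _ rfl
  refine ⟨(y.1.2 (⟨0, by norm_num⟩, 0)).2.val, Subtype.ext (Prod.ext ?_ ?_)⟩
  · rw [hg, Subgroup.coe_pow, Prod.pow_fst]
    simp [shift1]
  · rw [shift1_pow, ZMod.natCast_zmod_val]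
    refine Equiv.ext fun ⟨i, a⟩ => ?_
    rw [shiftPerm_apply, h1 i a, hfst, hconst _ i rfl, add_comm]

theorem shift1_central : shift1 ∈ Subgroup.center ↥triple := by
  rw [Subgroup.mem_center_iff]
  intro g
  refine Subtype.ext (Prod.ext (by simp [shift1]) (Equiv.ext fun p => ?_))
  obtain ⟨i, a⟩ := p
  change g.1.2 (shiftPerm 1 (i, a)) = shiftPerm 1 (g.1.2 (i, a))
  rw [shiftPerm_apply, shiftPerm_apply, g.2.1 i (a + 1), g.2.1 i a]
  simp [add_assoc]

theorem orderOf_shift1 : orderOf shift1 = 3 := by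
  refine orderOf_eq_prime ?_ ?_
  · refine Subtype.ext (Prod.ext (by simp [shift1]) ?_)
    rw [shift1_pow, show ((3 : ℕ) : ZMod 3) = 0 from rfl]
    exact Equiv.ext fun p => by simp [shiftPerm_apply]
  · intro e
    have h := congrArg (fun y : ↥triple => (y.1.2 (⟨0, by norm_num⟩, 0)).2) e
    simp [shift1, shiftPerm_apply] at h

theorem ker_proj3 : proj3.ker = Subgroup.zpowers shift1 := by
  refine le_antisymm (fun y hy => ?_) (Subgroup.zpowers_le.2 rfl)
  obtain ⟨n, rfl⟩ := mem_ker_proj3 hy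
  exact Subgroup.pow_mem _ (Subgroup.mem_zpowers _) _

theorem shift1_mem_commutator : shift1 ∈ commutator ↥triple := by
  classical
  let y : ℕ → ↥triple := fun k => if hk : k < 6 then (exists_lift k hk).choose else 1
  have hy : ∀ k (hk : k < 6), y k = (exists_lift k hk).choose := fun k hk => dif_pos hk
  have hw : ∀ w : List ℕ, (∀ k ∈ w, k < 6) → proj3 (ev y w) = ev x w ∧
      ((ev y w).1.2 (⟨0, by norm_num⟩, 0)).1.1 = (track7 w).1 ∧
      ((ev y w).1.2 (⟨0, by norm_num⟩, 0)).2 = ((track7 w).2 : ZMod 3) := by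
    intro w hw
    induction w with
    | nil => exact ⟨by simp, rfl, by simp [track7]⟩
    | cons k w ih =>
      obtain ⟨i1, i2, i3⟩ := ih fun a ha => hw a (List.mem_cons_of_mem _ ha)
      have hk := hw k List.mem_cons_self
      obtain ⟨e1, e2⟩ := (exists_lift k hk).choose_spec
      rw [← hy k hk] at e1 e2
      refine ⟨by rw [Schur.Pc.ev_cons, map_mul, e1, i1, Schur.Pc.ev_cons], ?_⟩
      generalize hq : (ev y w).1.2 (⟨0, by norm_num⟩, 0) = q at i2 i3
      obtain ⟨q1, q2⟩ := q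
      have hstep : (ev y (k :: w)).1.2 (⟨0, by norm_num⟩, 0) = (y k).1.2 (q1, q2) := by
        rw [Schur.Pc.ev_cons, ← hq]; rfl
      have htr : track7 (k :: w) = (imgI k (track7 w).1,
          Nat.mod (Nat.add (track7 w).2 (shI k (track7 w).1)) 3) := rfl
      simp only at i2 i3
      refine ⟨?_, ?_⟩
      · rw [hstep, (e2 q1 q2).1, htr, i2]
      · rw [hstep, (e2 q1 q2).2, htr, i3, i2]
        change _ = ((((track7 w).2 + shI k (track7 w).1) % 3 : ℕ) : ZMod 3)
        rw [ZMod.natCast_mod, Nat.cast_add, add_comm]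
  have h := pair_ok
  simp only [pairOK, Bool.and_eq_true, List.all_eq_true, Bool.not_eq_true'] at h
  obtain ⟨⟨hlt, heq⟩, hne⟩ := h
  generalize pairWords.1 = u at hlt heq hne
  generalize pairWords.2 = v at hlt heq hne
  have hu : ∀ k ∈ u, k < 6 := fun k hk => Nat.le_of_ble_eq_true (hlt k (List.mem_append_left _ hk))
  have hv : ∀ k ∈ v, k < 6 := fun k hk => Nat.le_of_ble_eq_true (hlt k (List.mem_append_right _ hk))
  obtain ⟨a1, -, a3⟩ := hw (u ++ v) fun k hk => Nat.le_of_ble_eq_true (hlt k hk)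
  obtain ⟨b1, -, b3⟩ := hw (v ++ u) fun k hk => (List.mem_append.1 hk).elim (hv k) (hu k)
  set c := ⁅ev y u, ev y v⁆ with hc
  have hcker : c ∈ proj3.ker := by
    rw [MonoidHom.mem_ker, hc, map_commutatorElement, (hw u hu).1, (hw v hv).1,
      commutatorElement_eq_one_iff_commute]
    have e := ev_eq_of (u := u ++ v) (v := v ++ u) heq
    rwa [Schur.Pc.ev_append, Schur.Pc.ev_append] at e
  have hc1 : c ≠ 1 := by
    intro e
    rw [hc, commutatorElement_eq_one_iff_commute] at e
    have e2 : ev y (u ++ v) = ev y (v ++ u) := by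
      rw [Schur.Pc.ev_append, Schur.Pc.ev_append]; exact e
    rw [e2, b3] at a3
    have hlt3 : ∀ w, (track7 w).2 < 3 := fun w => by
      cases w with
      | nil => norm_num [track7]
      | cons k w => exact Nat.mod_lt _ (by norm_num)
    have := congrArg ZMod.val a3
    rw [ZMod.val_natCast, ZMod.val_natCast, Nat.mod_eq_of_lt (hlt3 _),
      Nat.mod_eq_of_lt (hlt3 _)] at this
    rw [this, Nat.beq_refl] at hne
    exact Bool.noConfusion hne
  haveI : Fact (Nat.Prime 3) := ⟨Nat.prime_three⟩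
  have hcom : c ∈ commutator ↥triple :=
    Subgroup.commutator_mem_commutator (Subgroup.mem_top _) (Subgroup.mem_top _)
  obtain ⟨n, hn⟩ := mem_ker_proj3 hcker
  have hnd : ¬ 3 ∣ n := fun hd => hc1 (by
    rw [← hn, orderOf_dvd_iff_pow_eq_one.1 (orderOf_shift1.symm ▸ hd)])
  have hcop : (orderOf shift1).Coprime n := by
    rw [orderOf_shift1]; exact Nat.prime_three.coprime_iff_not_dvd.2 hnd
  obtain ⟨m, hm⟩ := exists_pow_eq_self_of_coprime hcop.symm
  rw [hn] at hm
  rw [← hm]
  exact Subgroup.pow_mem _ hcom m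

theorem isStemExtension_proj3 : Cfsg.IsStemExtension proj3 := by
  refine ⟨proj3_surjective, ?_, ?_⟩ <;> rw [ker_proj3, Subgroup.zpowers_le]
  exacts [shift1_central, shift1_mem_commutator]

end CfsgLib.OmegaSevenMult
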