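import Cfsg.Agent.OmegaSevenMult.Tables
import Cfsg.Agent.OmegaSevenMult.CoverData

/-! The checks on the triple cover. -/

set_option autoImplicit false

namespace CfsgLib.OmegaSevenMult

open CfsgLib.OmegaSeven

/-- The point number `i`. -/
def ptRow (i : ℕ) : Row := pts.getD i (0, 0)

/-- The opposite row. -/
def negRow (r : Row) : Row := (r.2, r.1)

/-- The edge entry from `i` to `j`: zero, or one more than the voltage. -/
def volt (i j : ℕ) : ℕ := Nat.mod (Nat.shiftRight (volts.getD i 0) (Nat.mul 2 j)) 4

/-- The image of a point under the inverse of a generator. -/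
def imgI (k i : ℕ) : ℕ := Nat.mod (Nat.shiftRight (imgs.getD k 0) (Nat.mul 9 i)) 512

/-- The shift at a point. -/
def shI (k i : ℕ) : ℕ := Nat.mod (Nat.shiftRight (shifts.getD k 0) (Nat.mul 2 i)) 4

/-- The neighbour leading down. -/
def upPt (i : ℕ) : ℕ := Nat.mod (Nat.shiftRight ups (Nat.mul 9 i)) 512

/-- The depth of a point. -/
def depPt (i : ℕ) : ℕ := Nat.mod (Nat.shiftRight deps (Nat.mul 4 i)) 16

/-- Evaluate a numeral before use. -/
def force7 {α : Type} (n : ℕ) (f : ℕ → α) : α :=
  match n with
  | 0 => f 0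
  | m + 1 => f (m + 1)

theorem force7_eq {α : Type} (n : ℕ) (f : ℕ → α) : force7 n f = f n := by cases n <;> rfl

/-- The checks on the graph. -/
def graphOK : Bool :=
  Nat.beq pts.length 378 && pts.all okR &&
    CoverTab.nodupMask ((pts ++ pts.map negRow).map keyR) 0 &&
    (List.range 378).all fun i => Nat.beq i 0 ||
      (Nat.blt (upPt i) 378 && !Nat.beq (volt i (upPt i)) 0 &&
        Nat.blt (depPt (upPt i)) (depPt i))

/-- The checks on one lift at one point. -/
def liftAt (k i : ℕ) : Bool :=
  Nat.blt (imgI k i) 378 &&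
    (comboR (ptRow (imgI k i)) (mat7 k) pos7 == ptRow i ||
      comboR (ptRow (imgI k i)) (mat7 k) pos7 == negRow (ptRow i)) &&
    force7 (volts.getD i 0) fun a => force7 (volts.getD (imgI k i) 0) fun b =>
      force7 (shI k i) fun s => (List.range 378).all fun j =>
        force7 (Nat.mod (Nat.shiftRight a (Nat.mul 2 j)) 4) fun e =>
          bif Nat.beq e 0 then true
          else force7 (Nat.mod (Nat.shiftRight b (Nat.mul 2 (imgI k j))) 4) fun e' =>
            !Nat.beq e' 0 && Nat.beq (Nat.mod (Nat.add e' s) 3) (Nat.mod (Nat.add e (shI k j)) 3)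

/-- The checks on one lift. -/
def liftOK (k : ℕ) : Bool := (List.range 378).all (liftAt k)

/-- Follow a word of lifts from the first point. -/
def track7 (w : List ℕ) : ℕ × ℕ :=
  w.foldr (fun k p => (imgI k p.1, Nat.mod (Nat.add p.2 (shI k p.1)) 3)) (0, 0)

/-- Commuting words whose lifts do not commute. -/
def pairOK : Bool :=
  (pairWords.1 ++ pairWords.2).all (fun k => Nat.blt k 6) &&
    wordMat (pairWords.1 ++ pairWords.2) == wordMat (pairWords.2 ++ pairWords.1) &&
    !Nat.beq (track7 (pairWords.1 ++ pairWords.2)).2 (track7 (pairWords.2 ++ pairWords.1)).2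

end CfsgLib.OmegaSevenMult
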