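import Cfsg.Agent.OmegaSevenMult.Tables

/-! Elements of orders 5, 7 and 13. -/

set_option autoImplicit false
set_option Elab.async false
set_option maxRecDepth 100000

namespace CfsgLib.OmegaSevenMult

theorem cyclic_ok : primeOK 5 elt5 = true ∧ primeOK 7 elt7 = true ∧ primeOK 13 elt13 = true := by
  decide +kernel

end CfsgLib.OmegaSevenMult
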