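import Cfsg.Agent.OmegaSevenMult.Tables

/-! The kernel checks on the generators and the chain of orbits. -/

set_option autoImplicit false
set_option Elab.async false
set_option maxRecDepth 100000

namespace CfsgLib.OmegaSevenMult

theorem genOK_true : genOK = true := by decide +kernel

theorem defs_ok : defsOK 6 defs = true := by decide +kernel

theorem levels_ok : chainOK [] levels = true := by decide +kernel

theorem levels_card : Nat.beq (chainCard levels) 4585351680 = true := by decide +kernel

end CfsgLib.OmegaSevenMult
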