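import Cfsg.Agent.OmegaSeven.Group
import Cfsg.Agent.OmegaSevenMult.GroupChecks
import Cfsg.Agent.Schur.PcClosure

/-!
# The group generated by the coded elements is the whole group
-/

set_option autoImplicit false
set_option linter.style.haveILetI false

namespace CfsgLib.OmegaSevenMult

open Matrix CfsgLib.OmegaSeven CfsgLib.StdForms
open CfsgLib.Schur.Pc (ev tailSubgroup)

instance : Fact (Nat.Prime 3) := ⟨Nat.prime_three⟩

/-- The elements. -/
noncomputable def x (k : ℕ) : G7 := elem (mat7 k)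

theorem wordMat_cons (k : ℕ) (w : List ℕ) : wordMat (k :: w) = mulC (mat7 k) (wordMat w) := rfl

theorem el_word_of : ∀ (w : List ℕ), (∀ j ∈ w, El (mat7 j)) →
    El (wordMat w) ∧ elem (wordMat w) = ev x w
  | [], _ => ⟨El.one, elem_one⟩
  | k :: w, h => by
    obtain ⟨h1, h2⟩ := el_word_of w fun j hj => h j (List.mem_cons_of_mem _ hj)
    have hk := h k List.mem_cons_self
    exact ⟨hk.mul h1, by rw [wordMat_cons, elem_mul hk h1, Schur.Pc.ev_cons, h2]; rfl⟩

theorem x_out {k : ℕ} (hk : mats.length ≤ k) : x k = 1 := by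
  rw [x, mat7, List.getD_eq_default _ _ hk, elem_one]

theorem el_defs : ∀ (ds : List (List ℕ)) (k : ℕ), defsOK k ds = true →
    (∀ j < k, El (mat7 j)) → ∀ j < mats.length, El (mat7 j)
  | [], k, h, hk, j, hj => hk j (Nat.eq_of_beq_eq_true h ▸ hj)
  | w :: ws, k, h, hk, j, hj => by
    simp only [defsOK, Bool.and_eq_true, List.all_eq_true, beq_iff_eq] at h
    obtain ⟨⟨hw, he⟩, hrest⟩ := h
    refine el_defs ws (k + 1) hrest (fun i hi => ?_) j hj
    rcases Nat.lt_succ_iff_lt_or_eq.1 hi with hi' | rfl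
    · exact hk i hi'
    · rw [← he]
      exact (el_word_of w fun a ha => hk a (Nat.le_of_ble_eq_true (hw a ha))).1

theorem el_basic : ∀ j < 6, El (mat7 j) := by
  intro j hj
  have h := genOK_true
  simp only [genOK, Bool.and_eq_true, List.all_eq_true, List.mem_range, beq_iff_eq] at h
  rw [h.2 j hj, List.getD_eq_getElem?_getD]
  cases hk : gens18[genIdx.getD j 0]? with
  | none => exact El.one
  | some g => exact el_gens18 g (List.mem_of_getElem? hk)

theorem el_mat (k : ℕ) : El (mat7 k) := by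
  by_cases hk : k < mats.length
  · exact el_defs defs 6 defs_ok el_basic k hk
  · rw [mat7, List.getD_eq_default _ _ (not_lt.1 hk)]; exact El.one

theorem el_word (w : List ℕ) : El (wordMat w) ∧ elem (wordMat w) = ev x w :=
  el_word_of w fun j _ => el_mat j

theorem toM_ev (w : List ℕ) : toM (ev x w) = toMat (wordMat w) := by
  rw [← (el_word w).2, toM_elem (el_word w).1]

theorem ev_eq_of {u v : List ℕ} (h : (wordMat u == wordMat v) = true) : ev x u = ev x v :=
  toM_injective (by rw [toM_ev, toM_ev, beq_iff_eq.1 h])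

theorem ev_expandW (xs w : List ℕ) :
    ev x (expandW xs w) = ev (fun s => x (xs.getD s mats.length)) w := by
  induction w with
  | nil => rfl
  | cons s w ih =>
    rw [expandW, List.map_cons, Schur.Pc.ev_cons, Schur.Pc.ev_cons, ← ih]
    rfl

/-! ### Rows -/

/-- The row as a vector. -/
def vecR (r : Row) : I7 → ZMod 3 := fun q => rowVal r (pos q)

/-- The index at a position. -/
def ptI : ℕ → I7
  | 0 => Sum.inl ()
  | 1 => Sum.inr (Sum.inl 0)
  | 2 => Sum.inr (Sum.inl 1)
  | 3 => Sum.inr (Sum.inl 2)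
  | 4 => Sum.inr (Sum.inr 0)
  | 5 => Sum.inr (Sum.inr 1)
  | _ => Sum.inr (Sum.inr 2)

/-- The code of a vector. -/
def keyV (u : I7 → ZMod 3) : ℕ := ((List.range 7).map fun j => (u (ptI j)).val * 3 ^ j).sum

theorem keyV_vecR (r : Row) : keyV (vecR r) = keyR r := by
  rw [keyV, keyR]
  refine congrArg List.sum (List.map_congr_left fun j hj => ?_)
  rw [vecR, (by decide : ∀ j < 7, pos (ptI j) = j) j (List.mem_range.1 hj)]

theorem vecR_combo (r : Row) {A : List Row} (hA : okM A = true) :
    vecR (comboR r A pos7) = vecR r ᵥ* toMat A := by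
  funext q
  rw [vecR, (comboR_spec r hA pos7).2]
  exact sum_pos fun j => rowVal r j * rowVal (A.getD j (0, 0)) (pos q)

theorem vecR_imgW : ∀ (w : List ℕ) (v : Row), vecR (imgW v w) = vecR v ᵥ* toM (ev x w)
  | [], v => by rw [Schur.Pc.ev_nil, map_one, Matrix.vecMul_one]; rfl
  | k :: w, v => by
    rw [imgW, List.foldl_cons, ← imgW, vecR_imgW w, vecR_combo v (el_mat k).1, Schur.Pc.ev_cons,
      map_mul, x, toM_elem (el_mat k), Matrix.vecMul_vecMul]

/-- The members of a set fixing rows. -/
def FixSet (H : Subgroup G7) (before : List Row) : Set G7 :=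
  {g | g ∈ H ∧ ∀ u ∈ before, vecR u ᵥ* toM g = vecR u}

theorem chain_card_le (H : Subgroup G7) :
    ∀ (L : List (Row × List (List ℕ))) (before : List Row), chainOK before L = true →
      (∀ l ∈ L, ∀ w ∈ l.2, ev x w ∈ H) → chainCard L ≤ (FixSet H before).ncard
  | [], before, _, _ => by
    haveI : Finite G7 := Finite.of_injective _ toM_injective
    refine Nat.one_le_iff_ne_zero.2 (Set.ncard_ne_zero_of_mem (a := (1 : G7)) ⟨one_mem H, ?_⟩ ?_)
    · intro u _; rw [map_one, Matrix.vecMul_one]
    · exact Set.toFinite _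
  | l :: rest, before, h, hw => by
    haveI : Finite G7 := Finite.of_injective _ toM_injective
    simp only [chainOK, Bool.and_eq_true, List.all_eq_true, beq_iff_eq] at h
    obtain ⟨⟨⟨-, hfix⟩, hnd⟩, hrest⟩ := h
    have ih := chain_card_le H rest (before ++ [l.1]) hrest fun l' hl' =>
      hw l' (List.mem_cons_of_mem _ hl')
    have hnd' := (CoverTab.nodupMask_sound _ _ hnd).1
    let f : Fin l.2.length × FixSet H (before ++ [l.1]) → FixSet H before := fun p =>
      ⟨p.2.1 * ev x (l.2[p.1.1]'p.1.2), mul_mem p.2.2.1 (hw l List.mem_cons_self _ (List.getElem_mem _)),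
        fun u hu => by
          rw [map_mul, ← Matrix.vecMul_vecMul, p.2.2.2 u (List.mem_append_left _ hu), ← vecR_imgW,
            hfix (l.2[p.1.1]'p.1.2) (List.getElem_mem _) u hu]⟩
    have hf : Function.Injective f := by
      rintro ⟨i, g⟩ ⟨j, g'⟩ e
      have e1 : g.1 * ev x (l.2[i.1]'i.2) = g'.1 * ev x (l.2[j.1]'j.2) := congrArg Subtype.val e
      have key : ∀ (a : ℕ) (ha : a < l.2.length) (y : FixSet H (before ++ [l.1])),
          keyV (vecR l.1 ᵥ* toM (y.1 * ev x l.2[a])) = keyR (imgW l.1 l.2[a]) := fun a ha y => by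
        rw [map_mul, ← Matrix.vecMul_vecMul, y.2.2 l.1 (by simp), ← vecR_imgW, keyV_vecR]
      have e2 : i = j := by
        have e3 := key i.1 i.2 g
        rw [e1, key j.1 j.2 g'] at e3
        refine Fin.ext ((hnd'.getElem_inj_iff (hi := by simp) (hj := by simp)).1 ?_)
        simpa using e3.symm
      subst e2
      exact Prod.ext rfl (Subtype.ext (mul_right_cancel e1))
    have h2 := Nat.card_le_card_of_injective f hf
    rw [Nat.card_prod, Nat.card_fin, Nat.card_coe_set_eq, Nat.card_coe_set_eq] at h2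
    calc chainCard (l :: rest) = l.2.length * chainCard rest := by simp [chainCard]
      _ ≤ l.2.length * (FixSet H (before ++ [l.1])).ncard := Nat.mul_le_mul_left _ ih
      _ ≤ _ := h2

theorem chain_card_le_card (H : Subgroup G7) (L : List (Row × List (List ℕ)))
    (h : chainOK [] L = true) (hw : ∀ l ∈ L, ∀ w ∈ l.2, ev x w ∈ H) : chainCard L ≤ Nat.card H :=
  (chain_card_le H L [] h hw).trans
    ((Set.ncard_le_ncard (fun _ hg => hg.1)
      (haveI : Finite G7 := Finite.of_injective _ toM_injective; Set.toFinite _)).trans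
      (Nat.card_coe_set_eq (H : Set G7)).ge)

/-- The subgroup of the six generators. -/
noncomputable def gen6 : Subgroup G7 := Subgroup.closure {g | ∃ j < 6, x j = g}

theorem x_mem_gen6 (k : ℕ) : x k ∈ gen6 := by
  have key : ∀ (ds : List (List ℕ)) (i : ℕ), defsOK i ds = true →
      (∀ j < i, x j ∈ gen6) → ∀ j < mats.length, x j ∈ gen6 := by
    intro ds
    induction ds with
    | nil => intro i h hi j hj; exact hi j (Nat.eq_of_beq_eq_true h ▸ hj)
    | cons w ws ih =>
      intro i h hi j hj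
      simp only [defsOK, Bool.and_eq_true, List.all_eq_true, beq_iff_eq] at h
      obtain ⟨⟨hw, he⟩, hrest⟩ := h
      refine ih (i + 1) hrest (fun a ha => ?_) j hj
      rcases Nat.lt_succ_iff_lt_or_eq.1 ha with ha' | rfl
      · exact hi a ha'
      · rw [x, ← he, (el_word w).2]
        exact Schur.Pc.ev_mem x fun b hb => hi b (Nat.le_of_ble_eq_true (hw b hb))
  by_cases hk : k < mats.length
  · exact key defs 6 defs_ok (fun j hj => Subgroup.subset_closure ⟨j, hj, rfl⟩) k hk
  · rw [x_out (not_lt.1 hk)]; exact one_mem _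

theorem neg_one_not_omega {F : Type} [Field F] [Fintype F] (m : ℕ)
    (g : ↥(Cfsg.isometryGroup F ⇑(oddQ m F))) (hg : g ∈ Cfsg.Omega F ⇑(oddQ m F))
    (hgv : CfsgLib.Spinor.mat (oddQ m F) g = -1) : (2 : F) = 0 := by
  have hdet : (CfsgLib.Spinor.mat (oddQ m F) g).det = 1 := by
    have h := CfsgLib.Forms.omega_le_special (Q := oddQ m F) hg
    exact congrArg Units.val (MonoidHom.mem_ker.1 h)
  rw [hgv, Matrix.det_neg, Matrix.det_one, mul_one] at hdet
  have hodd : Odd (Fintype.card (Unit ⊕ (Fin m ⊕ Fin m))) := ⟨m, by simp; ring⟩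
  rw [hodd.neg_one_pow] at hdet
  linear_combination -hdet

theorem center_bot : Subgroup.center G7 = ⊥ := by
  refine Subgroup.eq_bot_of_card_eq _ ?_
  obtain ⟨P⟩ : Nonempty (CfsgLib.Forms4.TwoPairs Q7) := ⟨CfsgLib.Forms4.oddPairs 3 (by norm_num)⟩
  exact CfsgLib.Forms4.card_center_omega_one nondeg7 (by simp) P (neg_one_not_omega 3)

theorem card_G7 : Nat.card G7 = 4585351680 := by
  have h := CfsgLib.Forms4.card_pOmegaOdd (F := ZMod 3) (q := 3) (ZMod.card 3) (by decide) 3 le_rfl
  rw [Finset.prod_range_succ, Finset.prod_range_succ, Finset.prod_range_succ,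
    Finset.prod_range_zero] at h
  have e : Nat.card (Cfsg.POmega (ZMod 3) (Cfsg.quadFormOdd 3 (ZMod 3))) = Nat.card G7 := by
    rw [← coe_oddQ]
    show Nat.card (G7 ⧸ Subgroup.center G7) = Nat.card G7
    rw [center_bot]
    exact Nat.card_congr (QuotientGroup.quotientBot (G := G7)).toEquiv
  change 2 * Nat.card (Cfsg.POmega (ZMod 3) (Cfsg.quadFormOdd 3 (ZMod 3))) = _ at h
  rw [e] at h
  norm_num at h
  omega

theorem gen6_eq_top : gen6 = ⊤ := by
  haveI : Finite G7 := Finite.of_injective _ toM_injective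
  refine Subgroup.eq_top_of_le_card _ ?_
  rw [card_G7, ← Nat.eq_of_beq_eq_true levels_card]
  exact chain_card_le_card gen6 levels levels_ok fun l _ w _ =>
    Schur.Pc.ev_mem x fun a _ => x_mem_gen6 a

/-- The order of the subgroup of Sylow letters. -/
theorem sylow_card {rules fus W} {xs gs : List ℕ} {L : List (Row × List (List ℕ))} {n N : ℕ}
    (h : sylowOK rules fus W xs gs L n N = true) :
    (∀ q ∈ rules, ev (fun s => x (xs.getD s mats.length)) q.1 =
      ev (fun s => x (xs.getD s mats.length)) q.2) ∧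
    (∀ F ∈ fus, ∃ g : G7, ∀ s < W, g * ev (fun s => x (xs.getD s mats.length)) (F.1.getD s []) * g⁻¹ =
      ev (fun s => x (xs.getD s mats.length)) (F.2.getD s [])) ∧
    N ≤ Nat.card (tailSubgroup (fun s => x (xs.getD s mats.length)) n 0) := by
  simp only [sylowOK, Bool.and_eq_true, List.all_eq_true, List.mem_range] at h
  obtain ⟨⟨⟨⟨hrules, hfus⟩, hlet⟩, hchain⟩, hN⟩ := h
  refine ⟨fun q hq => ?_, fun F hF => ?_, ?_⟩
  · rw [← ev_expandW, ← ev_expandW]
    exact ev_eq_of (hrules q hq)
  · obtain ⟨f, hf, rfl⟩ := List.getElem_of_mem hF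
    refine ⟨x (gs.getD f mats.length), fun s hs => ?_⟩
    have e := ev_eq_of (hfus f hf s hs)
    rw [List.getD_eq_getElem _ _ hf, Schur.Pc.ev_cons, Schur.Pc.ev_append, Schur.Pc.ev_cons,
      Schur.Pc.ev_nil, mul_one, ev_expandW, ev_expandW] at e
    rw [mul_inv_eq_iff_eq_mul]
    exact e
  · have hc : chainCard (expandL xs L) = chainCard L := by
      simp [chainCard, expandL, List.map_map, Function.comp_def]
    rw [← Nat.eq_of_beq_eq_true hN, ← hc]
    refine chain_card_le_card _ _ hchain fun l hl w hw => ?_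
    simp only [expandL, List.mem_map] at hl
    obtain ⟨l', hl', rfl⟩ := hl
    simp only [List.mem_map] at hw
    obtain ⟨w', hw', rfl⟩ := hw
    rw [ev_expandW]
    exact Schur.Pc.ev_mem _ fun a ha =>
      Schur.Pc.gen_mem_tailSubgroup _ (Nat.zero_le _) (Nat.le_of_ble_eq_true (hlet l' hl' w' hw' a ha))

end CfsgLib.OmegaSevenMult
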