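import Cfsg.Agent.OmegaSeven.Code

/-! Elements of the seven dimensional orthogonal group over three elements as coded matrices and words (generated data). -/

set_option autoImplicit false
set_option maxRecDepth 10000

namespace CfsgLib.OmegaSevenMult

/-- Positions of the six generators among the checked ones. -/
def genIdx : List ℕ := [0, 1, 2, 9, 10, 11]

/-- The matrices. -/
def mats : List (List CfsgLib.OmegaSeven.Row) := [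
  [(17, 0), (3, 16), (4, 0), (8, 0), (16, 0), (32, 0), (64, 0)],
  [(33, 0), (2, 0), (5, 32), (8, 0), (16, 0), (32, 0), (64, 0)],
  [(65, 0), (2, 0), (4, 0), (9, 64), (16, 0), (32, 0), (64, 0)],
  [(3, 0), (2, 0), (4, 0), (8, 0), (17, 2), (32, 0), (64, 0)],
  [(5, 0), (2, 0), (4, 0), (8, 0), (16, 0), (33, 4), (64, 0)],
  [(9, 0), (2, 0), (4, 0), (8, 0), (16, 0), (32, 0), (65, 8)],
  [(1, 0), (34, 0), (4, 16), (8, 0), (16, 0), (32, 0), (64, 0)],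
  [(1, 0), (2, 32), (20, 0), (8, 0), (16, 0), (32, 0), (64, 0)],
  [(1, 0), (66, 0), (4, 0), (8, 16), (16, 0), (32, 0), (64, 0)],
  [(1, 0), (2, 64), (4, 0), (24, 0), (16, 0), (32, 0), (64, 0)],
  [(1, 0), (6, 0), (4, 0), (8, 0), (16, 0), (32, 16), (64, 0)],
  [(1, 0), (2, 4), (4, 0), (8, 0), (16, 0), (48, 0), (64, 0)],
  [(1, 0), (10, 0), (4, 0), (8, 0), (16, 0), (32, 0), (64, 16)],
  [(1, 0), (2, 8), (4, 0), (8, 0), (16, 0), (32, 0), (80, 0)],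
  [(1, 0), (2, 0), (68, 0), (8, 32), (16, 0), (32, 0), (64, 0)],
  [(1, 0), (2, 0), (4, 64), (40, 0), (16, 0), (32, 0), (64, 0)],
  [(1, 0), (2, 0), (6, 0), (8, 0), (16, 32), (32, 0), (64, 0)],
  [(1, 0), (2, 0), (12, 0), (8, 0), (16, 0), (32, 0), (64, 32)],
  [(1, 0), (2, 0), (4, 8), (8, 0), (16, 0), (32, 0), (96, 0)],
  [(1, 0), (2, 0), (4, 0), (10, 0), (16, 64), (32, 0), (64, 0)],
  [(1, 0), (2, 0), (4, 0), (12, 0), (16, 0), (32, 64), (64, 0)],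
  [(1, 0), (2, 0), (4, 0), (8, 0), (20, 0), (32, 2), (64, 0)],
  [(1, 0), (2, 0), (4, 0), (8, 0), (16, 4), (34, 0), (64, 0)],
  [(1, 0), (2, 0), (4, 0), (8, 0), (24, 0), (32, 0), (64, 2)],
  [(1, 0), (2, 0), (4, 0), (8, 0), (16, 8), (32, 0), (66, 0)],
  [(1, 0), (2, 0), (4, 0), (8, 0), (16, 0), (40, 0), (64, 4)],
  [(1, 0), (2, 0), (4, 0), (8, 0), (16, 0), (32, 8), (68, 0)],
  [(1, 0), (2, 0), (4, 0), (8, 4), (16, 0), (96, 0), (64, 0)],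
  [(1, 0), (2, 0), (4, 0), (8, 0), (24, 0), (32, 0), (64, 2)],
  [(1, 2), (2, 0), (4, 0), (8, 0), (16, 3), (32, 0), (64, 0)],
  [(1, 32), (2, 0), (4, 33), (8, 0), (16, 0), (32, 0), (64, 0)],
  [(1, 16), (2, 17), (4, 0), (8, 0), (16, 0), (32, 0), (64, 0)],
  [(1, 0), (10, 0), (4, 0), (8, 0), (16, 0), (32, 0), (64, 16)],
  [(1, 0), (66, 0), (4, 0), (8, 16), (16, 0), (32, 0), (64, 0)],
  [(1, 0), (34, 0), (4, 16), (8, 0), (16, 0), (32, 0), (64, 0)],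
  [(1, 8), (2, 0), (4, 0), (8, 0), (16, 0), (32, 0), (64, 9)],
  [(1, 4), (2, 0), (4, 0), (8, 0), (16, 0), (32, 5), (64, 0)],
  [(1, 0), (2, 0), (4, 0), (8, 0), (16, 0), (40, 0), (64, 4)],
  [(1, 64), (2, 0), (4, 0), (8, 65), (16, 0), (32, 0), (64, 0)],
  [(1, 0), (2, 0), (68, 0), (8, 32), (16, 0), (32, 0), (64, 0)],
  [(1, 0), (6, 0), (4, 0), (8, 0), (16, 0), (32, 16), (64, 0)],
  [(1, 0), (2, 0), (12, 0), (8, 0), (16, 0), (32, 0), (64, 32)],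
  [(1, 0), (2, 0), (4, 0), (8, 0), (20, 0), (32, 2), (64, 0)],
  [(1, 0), (2, 0), (4, 2), (8, 0), (48, 0), (32, 0), (64, 0)],
  [(1, 0), (2, 0), (4, 0), (8, 2), (80, 0), (32, 0), (64, 0)],
  [(1, 0), (2, 0), (4, 8), (8, 0), (16, 0), (32, 0), (96, 0)],
  [(67, 0), (2, 0), (4, 0), (9, 66), (17, 66), (32, 0), (64, 0)],
  [(65, 0), (2, 0), (4, 0), (9, 64), (16, 0), (32, 0), (64, 0)],
  [(1, 0), (2, 0), (12, 0), (8, 0), (16, 0), (32, 0), (64, 32)],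
  [(1, 0), (2, 0), (4, 0), (8, 0), (16, 4), (42, 0), (64, 4)],
  [(1, 0), (2, 0), (4, 0), (12, 0), (16, 0), (32, 64), (64, 0)],
  [(5, 0), (2, 0), (4, 0), (8, 0), (16, 0), (33, 4), (64, 0)],
  [(1, 0), (2, 0), (6, 8), (8, 0), (16, 32), (32, 0), (96, 0)],
  [(1, 0), (2, 0), (12, 0), (8, 0), (16, 0), (32, 0), (64, 32)],
  [(1, 66), (2, 0), (4, 0), (8, 67), (16, 67), (32, 0), (64, 0)],
  [(1, 64), (2, 0), (4, 0), (8, 65), (16, 0), (32, 0), (64, 0)],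
  [(1, 0), (2, 0), (4, 8), (8, 0), (16, 0), (32, 0), (96, 0)],
  [(1, 0), (2, 0), (4, 0), (8, 0), (20, 0), (32, 10), (68, 0)],
  [(1, 0), (2, 0), (4, 0), (8, 4), (16, 0), (96, 0), (64, 0)],
  [(1, 4), (2, 0), (4, 0), (8, 0), (16, 0), (32, 5), (64, 0)],
  [(1, 0), (2, 0), (12, 2), (8, 0), (48, 0), (32, 0), (64, 32)],
  [(1, 0), (2, 0), (4, 0), (12, 0), (16, 0), (32, 64), (64, 0)],
  [(5, 0), (2, 0), (4, 0), (12, 0), (16, 0), (41, 64), (64, 4)],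
  [(1, 0), (2, 0), (12, 0), (8, 0), (16, 0), (32, 0), (64, 32)],
  [(33, 0), (2, 0), (69, 8), (8, 32), (16, 0), (32, 0), (96, 0)],
  [(1, 0), (2, 0), (4, 0), (8, 4), (16, 0), (96, 0), (64, 0)],
  [(1, 4), (2, 0), (4, 0), (8, 4), (16, 0), (96, 9), (68, 0)],
  [(1, 0), (2, 0), (4, 8), (8, 0), (16, 0), (32, 0), (96, 0)],
  [(1, 32), (2, 0), (12, 65), (40, 0), (16, 0), (32, 0), (64, 32)],
  [(5, 0), (2, 0), (4, 0), (12, 0), (16, 0), (41, 64), (64, 4)],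
  [(4, 65), (2, 0), (4, 0), (4, 64), (16, 0), (104, 4), (64, 9)],
  [(13, 0), (2, 0), (4, 0), (8, 0), (16, 0), (33, 4), (69, 8)],
  [(5, 8), (2, 0), (4, 0), (8, 0), (16, 0), (33, 12), (64, 9)],
  [(1, 64), (2, 0), (4, 0), (8, 65), (16, 0), (32, 0), (64, 0)],
  [(1, 64), (2, 0), (4, 0), (8, 69), (16, 0), (96, 0), (64, 0)],
  [(5, 0), (2, 0), (4, 0), (8, 4), (16, 0), (109, 0), (64, 4)],
  [(1, 64), (2, 0), (4, 0), (12, 65), (16, 0), (32, 64), (64, 0)],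
  [(1, 4), (2, 0), (4, 0), (8, 4), (16, 0), (96, 9), (68, 0)],
  [(8, 1), (2, 0), (4, 0), (13, 64), (16, 0), (96, 5), (4, 8)],
  [(1, 12), (2, 0), (4, 0), (8, 0), (16, 0), (40, 5), (64, 9)],
  [(9, 4), (2, 0), (4, 0), (8, 0), (16, 0), (32, 5), (65, 12)],
  [(65, 0), (2, 0), (4, 0), (9, 64), (16, 0), (32, 0), (64, 0)],
  [(65, 0), (2, 0), (4, 0), (13, 64), (16, 0), (32, 64), (64, 0)],
  [(1, 4), (2, 0), (4, 0), (12, 0), (16, 0), (36, 73), (68, 0)],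
  [(65, 0), (2, 0), (4, 0), (9, 68), (16, 0), (96, 0), (64, 0)],
  [(1, 64), (2, 0), (4, 0), (8, 65), (16, 0), (32, 0), (64, 0)],
  [(65, 0), (2, 0), (4, 0), (9, 64), (16, 0), (32, 0), (64, 0)],
  [(0, 72), (2, 0), (4, 0), (9, 64), (16, 0), (32, 0), (65, 8)],
  [(1, 8), (2, 0), (4, 0), (8, 0), (16, 0), (32, 0), (64, 9)],
  [(9, 0), (2, 0), (4, 0), (8, 0), (16, 0), (32, 0), (65, 8)],
  [(8, 1), (2, 0), (4, 0), (9, 64), (16, 0), (32, 0), (0, 8)],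
  [(65, 0), (2, 0), (4, 0), (9, 64), (16, 0), (32, 0), (64, 0)],
  [(1, 64), (2, 0), (4, 0), (8, 65), (16, 0), (32, 0), (64, 0)],
  [(0, 72), (2, 0), (4, 0), (9, 64), (16, 0), (32, 0), (65, 8)],
  [(9, 0), (2, 0), (4, 0), (8, 0), (16, 0), (32, 0), (65, 8)],
  [(1, 8), (2, 0), (4, 0), (8, 0), (16, 0), (32, 0), (64, 9)],
  [(0, 65), (2, 0), (4, 0), (0, 64), (16, 0), (32, 0), (64, 9)],
  [(9, 0), (2, 0), (4, 0), (8, 0), (16, 0), (32, 0), (65, 8)],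
  [(1, 8), (2, 0), (4, 0), (8, 0), (16, 0), (32, 0), (64, 9)],
  [(1, 8), (2, 0), (4, 0), (8, 0), (16, 0), (32, 0), (64, 9)],
  [(9, 0), (2, 0), (4, 0), (8, 0), (16, 0), (32, 0), (65, 8)],
  [(32, 26), (37, 18), (16, 35), (8, 0), (11, 48), (20, 8), (67, 12)],
  [(8, 33), (2, 0), (99, 4), (32, 78), (56, 70), (8, 102), (14, 65)],
  [(65, 58), (33, 28), (85, 2), (108, 1), (5, 40), (106, 16), (77, 18)],
  [(80, 10), (2, 81), (4, 0), (8, 81), (17, 10), (32, 0), (65, 10)],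
  [(96, 1), (6, 88), (4, 97), (68, 49), (16, 0), (120, 4), (4, 24)],
  [(1, 0), (24, 100), (0, 112), (8, 116), (8, 2), (0, 84), (82, 8)],
  [(4, 9), (2, 0), (4, 106), (0, 98), (16, 106), (40, 5), (13, 34)],
  [(98, 12), (2, 0), (4, 97), (8, 97), (28, 3), (35, 12), (67, 12)],
  [(17, 38), (28, 33), (37, 26), (14, 0), (71, 32), (119, 0), (80, 32)],
  [(0, 114), (4, 8), (116, 11), (8, 2), (81, 40), (0, 123), (24, 103)],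
  [(2, 97), (17, 70), (0, 56), (96, 5), (95, 0), (81, 6), (19, 36)],
  [(6, 105), (72, 39), (103, 24), (64, 48), (42, 65), (48, 13), (32, 21)],
  [(65, 0), (2, 0), (4, 0), (9, 64), (16, 0), (32, 0), (64, 0)],
  [(1, 0), (2, 0), (4, 8), (8, 0), (16, 0), (32, 0), (96, 0)],
  [(1, 0), (6, 0), (4, 0), (8, 0), (16, 0), (32, 16), (64, 0)],
  [(1, 0), (2, 8), (4, 0), (8, 0), (16, 0), (32, 0), (80, 0)],
  [(1, 32), (2, 0), (4, 33), (8, 0), (16, 0), (32, 0), (64, 0)],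
  [(1, 16), (2, 17), (4, 0), (8, 0), (16, 0), (32, 0), (64, 0)],
  [(1, 0), (2, 0), (68, 0), (8, 32), (16, 0), (32, 0), (64, 0)],
  [(1, 0), (66, 0), (4, 0), (8, 16), (16, 0), (32, 0), (64, 0)],
  [(1, 0), (2, 32), (20, 0), (8, 0), (16, 0), (32, 0), (64, 0)],
  [(1, 20), (2, 21), (4, 0), (8, 0), (16, 0), (32, 21), (64, 0)],
  [(1, 24), (2, 25), (4, 0), (8, 0), (16, 0), (32, 0), (64, 25)],
  [(78, 0), (54, 72), (56, 3), (2, 113), (67, 20), (81, 40), (15, 32)],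
  [(3, 60), (18, 77), (66, 13), (32, 21), (57, 64), (17, 98), (13, 114)],
  [(89, 6), (80, 44), (88, 6), (34, 0), (24, 100), (49, 4), (16, 106)]]

/-- The elements after the generators, as words in the earlier ones. -/
def defs : List (List ℕ) := [
  [0, 1, 0, 0, 1, 1],
  [6, 6],
  [0, 2, 0, 0, 2, 2],
  [8, 8],
  [0, 4, 0, 0, 4, 4],
  [10, 10],
  [0, 5, 0, 0, 5, 5],
  [12, 12],
  [1, 2, 1, 1, 2, 2],
  [14, 14],
  [1, 3, 1, 1, 3, 3],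
  [1, 5, 1, 1, 5, 5],
  [17, 17],
  [2, 3, 2, 2, 3, 3],
  [2, 4, 2, 2, 4, 4],
  [3, 4, 3, 3, 4, 4],
  [21, 21],
  [3, 5, 3, 3, 5, 5],
  [23, 23],
  [4, 5, 4, 4, 5, 5],
  [25, 25],
  [20, 20],
  [24, 24],
  [3, 3],
  [1, 1],
  [0, 0],
  [13, 13],
  [9, 9],
  [7, 7],
  [5, 5],
  [4, 4],
  [26, 26],
  [2, 2],
  [15, 15],
  [11, 11],
  [18, 18],
  [22, 22],
  [16, 16],
  [19, 19],
  [18],
  [9, 3, 33],
  [13, 19, 0, 44, 32],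
  [11, 18, 18, 32, 40],
  [11, 13, 22, 32, 40],
  [0, 9, 20, 33, 31],
  [0, 7, 4, 40, 34],
  [13, 13, 16, 32, 32],
  [41],
  [9, 29, 33],
  [13, 19, 31, 44, 32],
  [11, 13, 41, 41, 40],
  [11, 13, 42, 32, 40],
  [0, 9, 27, 33, 31],
  [7, 11, 36, 34, 31],
  [13, 13, 43, 32, 32],
  [57, 50, 49],
  [49, 54, 54, 51, 54],
  [54, 47, 60, 55, 46],
  [46, 45, 60, 56, 54],
  [57, 58, 49],
  [46, 59, 46, 46, 57],
  [54, 47, 52, 55, 46],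
  [46, 48, 52, 53, 54],
  [62],
  [64, 61, 66, 68],
  [67, 62, 65, 63],
  [63, 61, 62, 61, 67],
  [68, 61, 67, 68, 65, 67],
  [64, 65, 67, 64, 65, 67],
  [63, 68, 66, 65, 63, 68],
  [68, 61, 63, 68, 61, 63],
  [66],
  [64, 62, 65, 68],
  [67, 61, 66, 63],
  [63, 65, 66, 65, 67],
  [63, 61, 64, 63, 65, 64],
  [63, 61, 68, 63, 61, 68],
  [64, 67, 61, 62, 64, 67],
  [67, 65, 64, 67, 65, 64],
  [73],
  [81],
  [75, 71, 78],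
  [72, 71, 72],
  [83, 71, 75],
  [83, 78, 75],
  [81],
  [73],
  [70, 79, 83],
  [80, 79, 80],
  [83, 79, 75],
  [83, 70, 75],
  [89],
  [88],
  [95],
  [94],
  [98, 86, 69, 79, 67, 68, 62, 49, 52, 0, 1, 22],
  [97, 96, 76, 64, 67, 65, 64, 57, 60, 50],
  [86, 69, 73, 63, 61, 68, 61, 68, 49, 52, 51, 0, 11, 13, 16],
  [98, 70, 81, 52, 49, 59, 60, 0, 0, 2],
  [97, 85, 79, 67, 68, 61, 57, 9, 13, 22],
  [86, 69, 76, 49, 52, 58, 7, 26, 9, 22],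
  [98, 96, 79, 63, 61, 64, 65, 66, 52, 49, 58],
  [74, 63, 64, 61, 52, 51, 60],
  [97, 78, 67, 49, 48, 55, 7, 4, 3, 7, 26],
  [86, 70, 63, 65, 64, 46, 59, 45, 49, 11, 11, 13, 19],
  [98, 71, 76, 63, 61, 68, 65, 49, 45, 60, 50, 11, 18, 9, 3, 24],
  [97, 96, 72, 79, 63, 68, 65, 67, 46, 51, 48, 60, 7, 11, 15, 3, 13],
  [86],
  [67],
  [11, 11],
  [13],
  [74, 67, 68, 61],
  [0, 0],
  [98, 85, 69, 63, 64, 66, 64],
  [9, 9],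
  [7],
  [98, 80, 0, 0, 11],
  [98, 0, 0, 13],
  [98, 86, 71, 76, 64, 67, 65, 64, 46, 59, 45, 49, 7, 7, 9, 11, 26],
  [85, 69, 63, 61, 68, 66, 49, 45, 50, 11, 15, 13, 2],
  [86, 71, 63, 61, 68, 61, 68, 52, 51, 46, 45, 7, 20, 13, 22]]

/-- A chain of orbits of the whole group. -/
def levels : List (CfsgLib.OmegaSeven.Row × List (List ℕ)) := [
  ((2, 0), [[], [0], [7], [9], [11], [13], [0, 0], [0, 1], [0, 2], [0, 7], [0, 9], [0, 11], [0, 13], [0, 3], [0, 4], [0, 5], [7, 7], [7, 9], [7, 11], [7, 13], [7, 4], [7, 22], [7, 26], [7, 20], [9, 9], [9, 11], [9, 13], [9, 5], [9, 24], [11, 1], [11, 15], [11, 11], [11, 13], [11, 18], [11, 16], [13, 2], [13, 13], [13, 19], [0, 0, 1], [0, 0, 2], [0, 0, 11], [0, 0, 13], [0, 0, 22], [0, 0, 24], [0, 0, 16], [0, 0, 19], [0, 1, 2], [0, 1, 9], [0, 1, 11], [0, 1, 13], [0, 1, 3], [0, 1, 5], [0, 1,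 22], [0, 2, 7], [0, 2, 11], [0, 2, 13], [0, 2, 3], [0, 2, 4], [0, 2, 24], [0, 7, 9], [0, 7, 11], [0, 7, 13], [0, 7, 3], [0, 7, 5], [0, 7, 22], [0, 9, 11], [0, 9, 13], [0, 9, 3], [0, 9, 4], [0, 9, 24], [0, 11, 13], [0, 11, 18], [0, 11, 3], [0, 11, 16], [0, 13, 3], [0, 13, 4], [0, 13, 19], [0, 3, 22], [0, 3, 24], [0, 4, 7], [0, 4, 5], [0, 5, 9], [7, 7, 9], [7, 7, 11], [7, 7, 13], [7, 7, 22], [7, 9, 11], [7, 9, 13], [7, 9, 4], [7, 9, 5], [7, 9, 22], [7, 9, 26], [7, 11, 15], [7, 11, 11], [7, 11, 13], [7, 11, 18], [7, 11, 3], [7, 13, 2], [7, 13, 4], [7, 13, 22], [7, 13, 20], [7, 4, 7], [7, 4, 3], [7, 4, 26], [7, 4, 16], [7, 4, 20], [7, 22, 22], [7, 22, 26], [7, 22, 20], [7, 26, 2], [7, 26, 7], [7, 26, 9], [7, 26, 20], [7, 26, 19], [7, 20, 7], [7, 20, 13], [7, 20, 5], [7, 20, 24], [9, 9, 13], [9, 9, 26], [9, 9, 24], [9, 11, 1], [9,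 11, 11], [9, 11, 13], [9, 11, 5], [9, 11, 24], [9, 13, 13], [9, 13, 3], [9, 13, 22], [9, 13, 16], [9, 5, 9], [9, 5, 15], [9, 5, 3], [9, 5, 20], [9, 5, 19], [9, 24, 24], [11, 1, 15], [11, 1, 13], [11, 1, 18], [11, 1, 3], [11, 1, 22], [11, 15, 13], [11, 15, 18], [11, 15, 5], [11, 15, 24], [11, 15, 16], [11, 11, 13], [11, 11, 16], [11, 13, 2], [11, 13, 16], [11, 18, 2], [11, 18, 9], [11, 18, 11], [11, 18, 16], [11, 18, 19], [11, 16, 16], [13, 2, 18], [13, 2, 3], [13, 2, 26], [13, 2, 24], [13, 13, 19], [13, 19, 19], [0, 0, 1, 2], [0, 0, 1, 11], [0, 0, 1, 13], [0, 0, 1, 22], [0, 0, 1, 26], [0, 0, 1, 20], [0, 0, 2, 11], [0, 0, 2, 13], [0, 0, 2, 22], [0, 0, 2, 24], [0, 0, 2, 16], [0, 0, 11, 15], [0, 0, 11, 13], [0, 0, 11, 18], [0, 0, 11, 16], [0, 0, 13, 22], [0, 0, 13, 16], [0, 0, 13, 19], [0, 0, 22, 1], [0, 0, 22, 24], [0, 0, 22, 16],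 [0, 0, 22, 19], [0, 0, 24, 2], [0, 0, 24, 15], [0, 0, 24, 19], [0, 0, 16, 19], [0, 1, 2, 11], [0, 1, 2, 13], [0, 1, 2, 3], [0, 1, 2, 22], [0, 1, 2, 26], [0, 1, 2, 24], [0, 1, 9, 11], [0, 1, 9, 13], [0, 1, 9, 3], [0, 1, 9, 22], [0, 1, 9, 26], [0, 1, 9, 24], [0, 1, 11, 11], [0, 1, 11, 13], [0, 1, 11, 18], [0, 1, 11, 3], [0, 1, 11, 16], [0, 1, 13, 3], [0, 1, 13, 22], [0, 1, 13, 19], [0, 1, 3, 11], [0, 1, 3, 24], [0, 1, 5, 9], [0, 1, 5, 22], [0, 1, 5, 20], [0, 1, 22, 0], [0, 1, 22, 7], [0, 2, 7, 11], [0, 2, 7, 3], [0, 2, 7, 22], [0, 2, 7, 26], [0, 2, 7, 24], [0, 2, 11, 18], [0, 2, 11, 3], [0, 2, 11, 24], [0, 2, 11, 16], [0, 2, 13, 13], [0, 2, 13, 3], [0, 2, 13, 4], [0, 2, 13, 19], [0, 2, 3, 13], [0, 2, 3, 22], [0, 2, 4, 7], [0, 2, 4, 24], [0, 2, 24, 0], [0, 2, 24, 9], [0, 7, 9, 11], [0, 7, 9, 13], [0, 7, 9, 3], [0, 7, 9, 22], [0,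 7, 9, 26], [0, 7, 9, 24], [0, 7, 11, 13], [0, 7, 11, 18], [0, 7, 11, 22], [0, 7, 11, 16], [0, 7, 13, 3], [0, 7, 13, 22], [0, 7, 13, 20], [0, 7, 13, 19], [0, 7, 3, 11], [0, 7, 3, 22], [0, 7, 3, 26], [0, 7, 5, 22], [0, 7, 22, 0], [0, 7, 22, 22], [0, 9, 11, 13], [0, 9, 11, 3], [0, 9, 11, 24], [0, 9, 11, 16], [0, 9, 13, 4], [0, 9, 13, 24], [0, 9, 13, 19], [0, 9, 3, 13], [0, 9, 3, 22], [0, 9, 3, 24], [0, 9, 4, 7], [0, 9, 4, 18], [0, 9, 4, 24], [0, 9, 24, 0], [0, 9, 24, 24], [0, 11, 13, 3], [0, 11, 13, 16], [0, 11, 13, 19], [0, 11, 18, 3], [0, 11, 18, 16], [0, 11, 3, 7], [0, 11, 3, 16], [0, 13, 3, 9], [0, 13, 3, 22], [0, 13, 3, 19], [0, 13, 4, 7], [0, 13, 4, 19], [0, 3, 22, 7], [0, 3, 22, 24], [0, 3, 24, 9], [0, 4, 7, 5], [0, 4, 5, 9], [7, 7, 9, 11], [7, 7, 9, 22], [7, 7, 9, 26], [7, 7, 9, 24], [7, 7, 11, 15], [7, 7, 11, 13], [7, 7,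 11, 18], [7, 7, 13, 22], [7, 7, 13, 19], [7, 7, 22, 0], [7, 7, 22, 9], [7, 7, 22, 13], [7, 9, 11, 11], [7, 9, 11, 13], [7, 9, 11, 18], [7, 9, 11, 3], [7, 9, 11, 5], [7, 9, 11, 26], [7, 9, 11, 24], [7, 9, 13, 3], [7, 9, 13, 4], [7, 9, 13, 22], [7, 9, 4, 7], [7, 9, 4, 18], [7, 9, 4, 3], [7, 9, 4, 16], [7, 9, 5, 9], [7, 9, 5, 3], [7, 9, 5, 26], [7, 9, 5, 19], [7, 9, 22, 22], [7, 9, 22, 26], [7, 9, 26, 2], [7, 9, 26, 9], [7, 9, 26, 26], [7, 9, 26, 19], [7, 11, 15, 11], [7, 11, 15, 18], [7, 11, 15, 3], [7, 11, 15, 26], [7, 11, 15, 24], [7, 11, 11, 13], [7, 11, 11, 26], [7, 11, 13, 2], [7, 11, 13, 15], [7, 11, 13, 3], [7, 11, 13, 20], [7, 11, 13, 19], [7, 11, 18, 3], [7, 11, 3, 7], [7, 11, 3, 11], [7, 13, 2, 3], [7, 13, 2, 24], [7, 13, 4, 7], [7, 13, 4, 3], [7, 13, 4, 16], [7, 13, 22, 22], [7, 13, 22, 20], [7, 13, 20, 24], [7, 4, 7,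 16], [7, 4, 3, 7], [7, 4, 3, 26], [7, 4, 3, 20], [7, 4, 26, 7], [7, 4, 26, 9], [7, 4, 26, 16], [7, 4, 26, 20], [7, 4, 16, 9], [7, 4, 20, 7], [7, 4, 20, 13], [7, 22, 22, 7], [7, 22, 26, 2], [7, 22, 26, 9], [7, 22, 26, 20], [7, 22, 20, 13], [7, 22, 20, 5], [7, 26, 2, 9], [7, 26, 2, 3], [7, 26, 2, 26], [7, 26, 7, 9], [7, 26, 7, 20], [7, 26, 9, 3], [7, 26, 9, 5], [7, 26, 9, 22], [7, 26, 9, 24], [7, 26, 9, 19], [7, 26, 20, 1], [7, 26, 20, 7], [7, 26, 20, 24], [7, 26, 19, 0], [7, 26, 19, 11], [7, 20, 7, 13], [7, 20, 7, 26], [7, 20, 13, 3], [7, 20, 13, 22], [7, 20, 13, 19], [7, 20, 5, 3], [7, 20, 24, 0], [7, 20, 24, 11], [9, 9, 13, 26], [9, 9, 26, 24], [9, 9, 24, 0], [9, 11, 1, 13], [9, 11, 1, 3], [9, 11, 1, 22], [9, 11, 11, 24], [9, 11, 11, 16], [9, 11, 13, 3], [9, 11, 13, 16], [9, 11, 5, 9], [9, 11, 5, 3], [9, 11, 5, 19], [9, 11,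 24, 24], [9, 13, 13, 20], [9, 13, 3, 7], [9, 13, 3, 9], [9, 13, 3, 11], [9, 13, 3, 13], [9, 13, 22, 16], [9, 5, 9, 15], [9, 5, 9, 26], [9, 5, 9, 19], [9, 5, 15, 11], [9, 5, 15, 3], [9, 5, 15, 22], [9, 5, 15, 20], [9, 5, 3, 9], [9, 5, 3, 20], [9, 5, 20, 16], [11, 1, 15, 13], [11, 1, 15, 3], [11, 1, 15, 22], [11, 1, 13, 3], [11, 1, 13, 22], [11, 1, 18, 3], [11, 1, 18, 22], [11, 1, 3, 11], [11, 15, 13, 2], [11, 15, 13, 3], [11, 15, 13, 5], [11, 15, 13, 24], [11, 15, 13, 19], [11, 15, 18, 22], [11, 15, 18, 16], [11, 15, 5, 3], [11, 15, 5, 16], [11, 15, 24, 0], [11, 15, 24, 7], [11, 15, 16, 13], [11, 11, 13, 16], [11, 11, 13, 19], [11, 11, 16, 13], [11, 13, 2, 3], [11, 13, 2, 24], [11, 13, 16, 16], [11, 18, 2, 3], [11, 18, 2, 24], [11, 18, 9, 3], [11, 18, 9, 24], [11, 18, 16, 9], [11, 18, 19, 0], [11, 18, 19, 7], [13, 2, 18, 3], [13,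 2, 18, 22], [13, 2, 3, 13], [13, 2, 3, 26], [13, 2, 26, 24], [0, 0, 1, 2, 11], [0, 0, 1, 2, 22], [0, 0, 1, 2, 24], [0, 0, 1, 11, 15], [0, 0, 1, 11, 13], [0, 0, 1, 11, 18], [0, 0, 1, 11, 3], [0, 0, 1, 13, 22], [0, 0, 1, 13, 19], [0, 0, 1, 22, 26], [0, 0, 1, 22, 20], [0, 0, 1, 26, 20], [0, 0, 1, 26, 19], [0, 0, 2, 11, 24], [0, 0, 2, 11, 16], [0, 0, 2, 13, 3], [0, 0, 2, 22, 1], [0, 0, 2, 22, 13], [0, 0, 2, 22, 24], [0, 0, 2, 22, 16], [0, 0, 2, 24, 15], [0, 0, 2, 16, 13], [0, 0, 11, 15, 18], [0, 0, 11, 15, 24], [0, 0, 11, 15, 16], [0, 0, 11, 13, 16], [0, 0, 11, 13, 19], [0, 0, 11, 18, 16], [0, 0, 13, 22, 1], [0, 0, 13, 22, 16], [0, 0, 13, 22, 19], [0, 0, 13, 16, 19], [0, 0, 22, 1, 24], [0, 0, 22, 1, 19], [0, 0, 22, 24, 2], [0, 0, 22, 24, 15], [0, 0, 22, 24, 16], [0, 0, 22, 24, 19], [0, 0, 22, 16, 9], [0, 0, 22, 19, 18], [0, 0, 24,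 2, 15], [0, 0, 24, 15, 19], [0, 1, 2, 11, 11], [0, 1, 2, 11, 13], [0, 1, 2, 11, 3], [0, 1, 2, 11, 16], [0, 1, 2, 13, 13], [0, 1, 2, 13, 3], [0, 1, 2, 13, 19], [0, 1, 2, 3, 11], [0, 1, 2, 3, 26], [0, 1, 2, 22, 0], [0, 1, 2, 22, 7], [0, 1, 2, 22, 13], [0, 1, 2, 22, 18], [0, 1, 2, 22, 26], [0, 1, 2, 22, 24], [0, 1, 2, 26, 9], [0, 1, 2, 26, 19], [0, 1, 2, 24, 0], [0, 1, 2, 24, 9], [0, 1, 9, 11, 11], [0, 1, 9, 11, 3], [0, 1, 9, 11, 26], [0, 1, 9, 11, 24], [0, 1, 9, 13, 22], [0, 1, 9, 13, 26], [0, 1, 9, 13, 24], [0, 1, 9, 13, 19], [0, 1, 9, 3, 13], [0, 1, 9, 3, 24], [0, 1, 9, 22, 0], [0, 1, 9, 22, 7], [0, 1, 9, 22, 13], [0, 1, 9, 22, 18], [0, 1, 9, 22, 26], [0, 1, 9, 26, 16], [0, 1, 9, 24, 0], [0, 1, 11, 11, 5], [0, 1, 11, 11, 22], [0, 1, 11, 11, 16], [0, 1, 11, 13, 3], [0, 1, 11, 13, 16], [0, 1, 11, 18, 3], [0, 1, 11, 18, 16], [0,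 1, 13, 3, 9], [0, 1, 13, 3, 19], [0, 1, 13, 22, 0], [0, 1, 13, 22, 7], [0, 1, 13, 22, 9], [0, 1, 3, 11, 11], [0, 1, 3, 24, 9], [0, 1, 3, 24, 20], [0, 1, 5, 22, 0], [0, 1, 5, 22, 7], [0, 1, 5, 22, 15], [0, 1, 5, 22, 20], [0, 1, 22, 0, 16], [0, 2, 7, 11, 22], [0, 2, 7, 11, 24], [0, 2, 7, 11, 16], [0, 2, 7, 3, 26], [0, 2, 7, 22, 0], [0, 2, 7, 22, 22], [0, 2, 7, 22, 26], [0, 2, 7, 24, 11], [0, 2, 11, 18, 3], [0, 2, 11, 24, 7], [0, 2, 13, 13, 4], [0, 2, 13, 13, 24], [0, 2, 13, 13, 19], [0, 2, 13, 3, 11], [0, 2, 13, 4, 7], [0, 2, 13, 4, 19], [0, 2, 3, 13, 13], [0, 2, 3, 13, 26], [0, 2, 4, 24, 0], [0, 2, 4, 24, 9], [0, 2, 24, 0, 19], [0, 7, 9, 11, 22], [0, 7, 9, 11, 26], [0, 7, 9, 11, 24], [0, 7, 9, 11, 16], [0, 7, 9, 3, 22], [0, 7, 9, 3, 24], [0, 7, 9, 22, 0], [0, 7, 9, 22, 22], [0, 7, 9, 26, 19], [0, 7, 9, 24, 24], [0, 7, 11, 13,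 22], [0, 7, 11, 13, 16], [0, 7, 11, 18, 22], [0, 7, 11, 18, 16], [0, 7, 11, 18, 19], [0, 7, 11, 22, 22], [0, 7, 11, 16, 16], [0, 7, 13, 3, 22], [0, 7, 13, 3, 19], [0, 7, 13, 22, 0], [0, 7, 13, 22, 22], [0, 7, 5, 22, 0], [0, 9, 11, 3, 24], [0, 9, 11, 3, 16], [0, 9, 11, 24, 24], [0, 9, 13, 4, 24], [0, 9, 13, 4, 16], [0, 9, 13, 4, 19], [0, 9, 13, 24, 24], [0, 9, 13, 19, 19], [0, 9, 3, 22, 13], [0, 9, 3, 22, 24], [0, 9, 4, 24, 0], [0, 11, 13, 3, 16], [0, 11, 13, 3, 19], [0, 13, 3, 22, 9], [0, 13, 3, 22, 19], [0, 3, 22, 24, 7], [7, 7, 9, 11, 26], [7, 7, 9, 11, 24], [7, 7, 9, 22, 0], [7, 7, 9, 22, 26], [7, 7, 9, 26, 24], [7, 7, 11, 15, 24], [7, 7, 11, 18, 19], [7, 7, 13, 22, 0], [7, 7, 22, 0, 1], [7, 7, 22, 0, 9], [7, 7, 22, 0, 13], [7, 7, 22, 9, 26], [7, 7, 22, 13, 20], [7, 9, 11, 11, 24], [7, 9, 11, 18, 3], [7, 9, 11, 3, 7], [7,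 9, 11, 3, 11], [7, 9, 11, 3, 13], [7, 9, 11, 3, 26], [7, 9, 11, 5, 24], [7, 9, 11, 24, 24], [7, 9, 13, 3, 9], [7, 9, 13, 3, 11], [7, 9, 13, 22, 7], [7, 9, 4, 7, 24], [7, 9, 4, 7, 16], [7, 9, 4, 18, 3], [7, 9, 4, 18, 22], [7, 9, 4, 3, 7], [7, 9, 5, 9, 22], [7, 9, 5, 3, 9], [7, 9, 5, 3, 26], [7, 9, 5, 19, 26], [7, 9, 22, 26, 2], [7, 9, 26, 2, 3], [7, 9, 26, 9, 3], [7, 9, 26, 9, 22], [7, 9, 26, 9, 24], [7, 9, 26, 9, 16], [7, 9, 26, 9, 19], [7, 9, 26, 26, 16], [7, 11, 15, 11, 24], [7, 11, 15, 3, 13], [7, 11, 15, 3, 24], [7, 11, 11, 26, 19], [7, 11, 13, 15, 3], [7, 11, 13, 3, 7], [7, 11, 13, 3, 9], [7, 11, 13, 3, 20], [7, 13, 2, 3, 13], [7, 13, 4, 7, 16], [7, 13, 4, 3, 7], [7, 4, 7, 16, 9], [7, 4, 7, 16, 13], [7, 4, 3, 7, 26], [7, 4, 3, 7, 20], [7, 4, 3, 26, 20], [7, 4, 26, 7, 19], [7, 4, 26, 9, 19], [7, 4, 20, 7, 24], [7, 22, 26,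 2, 26], [7, 22, 26, 9, 3], [7, 22, 26, 9, 16], [7, 22, 26, 20, 1], [7, 22, 20, 13, 3], [7, 22, 20, 13, 16], [7, 26, 2, 3, 26], [7, 26, 7, 20, 24], [7, 26, 9, 3, 24], [7, 26, 9, 5, 3], [7, 26, 9, 5, 22], [7, 26, 9, 22, 1], [7, 26, 9, 22, 24], [7, 26, 20, 7, 3], [7, 20, 7, 26, 19], [7, 20, 13, 3, 19], [7, 20, 13, 22, 1], [7, 20, 13, 22, 19], [9, 11, 1, 3, 11], [9, 11, 13, 3, 7], [9, 13, 3, 7, 22], [9, 5, 9, 15, 22], [9, 5, 15, 3, 9], [9, 5, 15, 3, 20], [9, 5, 15, 22, 20], [9, 5, 3, 9, 20], [11, 1, 15, 13, 19], [11, 1, 15, 3, 11], [11, 1, 18, 3, 9], [11, 15, 13, 2, 3], [11, 15, 13, 3, 19], [11, 15, 13, 5, 24], [11, 15, 13, 5, 19], [11, 15, 16, 13, 22], [11, 18, 9, 3, 24], [11, 18, 16, 9, 22], [13, 2, 18, 3, 11], [13, 2, 3, 13, 26], [0, 0, 2, 13, 3, 7], [0, 0, 2, 13, 3, 11], [0, 0, 2, 22, 24, 15], [0, 0, 22, 1, 24, 19], [0, 1, 2,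 11, 11, 22], [0, 1, 2, 11, 11, 16], [0, 1, 2, 13, 13, 19], [0, 1, 2, 3, 26, 9], [0, 1, 2, 26, 9, 22], [0, 1, 2, 26, 9, 16], [0, 1, 2, 26, 9, 19], [0, 1, 2, 26, 19, 0], [0, 1, 9, 11, 11, 22], [0, 1, 9, 11, 11, 16], [0, 1, 9, 11, 3, 26], [0, 1, 11, 11, 5, 16], [0, 1, 11, 11, 22, 16], [0, 1, 3, 11, 11, 16], [0, 1, 3, 24, 20, 13], [7, 4, 26, 7, 19, 19]]),
  ((16, 0), [[], [46], [49], [52], [54], [57], [60], [46, 45], [46, 47], [46, 48], [46, 51], [46, 55], [46, 59], [49, 45], [49, 48], [49, 52], [49, 54], [49, 60], [52, 49], [52, 50], [52, 51], [52, 54], [52, 57], [52, 58], [52, 59], [54, 47], [54, 48], [54, 55], [54, 59], [57, 45], [57, 48], [57, 52], [57, 60], [60, 49], [60, 50], [60, 51], [60, 57], [60, 58], [60, 59], [46, 45, 47], [46, 45, 49], [46, 45, 51], [46, 45, 55], [46, 45, 57], [46, 47, 49], [46, 47, 51], [46, 47, 54],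 [46, 47, 60], [46, 48, 49], [46, 48, 50], [46, 48, 57], [46, 48, 59], [46, 51, 45], [46, 51, 48], [46, 51, 52], [46, 51, 55], [46, 51, 60], [46, 55, 54], [46, 55, 57], [46, 59, 45], [46, 59, 48], [46, 59, 52], [46, 59, 60], [49, 45, 46], [49, 45, 47], [49, 45, 50], [49, 45, 54], [49, 45, 55], [49, 45, 60], [49, 48, 47], [49, 48, 52], [49, 48, 55], [49, 48, 57], [49, 52, 46], [49, 52, 49], [49, 52, 50], [49, 52, 51], [49, 52, 54], [49, 52, 55], [49, 52, 57], [49, 52, 58], [49, 52, 59], [49, 54, 47], [49, 54, 48], [49, 54, 52], [49, 54, 55], [49, 54, 60], [49, 60, 47], [49, 60, 49], [49, 60, 50], [49, 60, 51], [49, 60, 55], [49, 60, 57], [49, 60, 58], [49, 60, 59], [52, 49, 47], [52, 49, 50], [52, 49, 51], [52, 49, 55], [52, 49, 58], [52, 49, 59], [52, 50, 51], [52, 50, 54], [52, 50, 57], [52, 50, 59], [52, 51, 45], [52, 51, 46],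 [52, 51, 47], [52, 51, 48], [52, 51, 57], [52, 51, 60], [52, 54, 47], [52, 54, 49], [52, 54, 57], [52, 57, 46], [52, 57, 54], [52, 57, 55], [52, 57, 58], [52, 57, 59], [52, 58, 59], [52, 59, 45], [52, 59, 48], [52, 59, 60], [54, 47, 45], [54, 47, 49], [54, 48, 49], [54, 48, 55], [54, 48, 57], [54, 55, 57], [54, 59, 45], [54, 59, 48], [54, 59, 52], [57, 45, 47], [57, 45, 55], [57, 48, 46], [57, 48, 47], [57, 48, 54], [57, 48, 55], [57, 52, 47], [57, 52, 49], [57, 52, 50], [57, 52, 51], [57, 52, 55], [57, 52, 58], [57, 52, 59], [57, 60, 46], [57, 60, 49], [57, 60, 50], [57, 60, 51], [57, 60, 54], [57, 60, 58], [57, 60, 59], [60, 49, 46], [60, 49, 50], [60, 49, 51], [60, 49, 54], [60, 49, 58], [60, 49, 59], [60, 50, 51], [60, 50, 57], [60, 50, 59], [60, 51, 45], [60, 51, 47], [60, 51, 48], [60, 51, 52], [60, 51, 54], [60, 51, 57],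 [60, 57, 47], [60, 57, 55], [60, 57, 58], [60, 57, 59], [60, 58, 59], [60, 59, 45], [60, 59, 48], [60, 59, 52], [46, 45, 49, 48], [46, 45, 49, 54], [46, 45, 51, 46], [46, 45, 51, 48], [46, 45, 51, 52], [46, 45, 51, 54], [46, 45, 51, 57], [46, 45, 51, 58], [46, 45, 51, 60], [46, 45, 57, 48], [46, 47, 49, 48], [46, 47, 49, 54], [46, 47, 51, 45], [46, 47, 51, 54], [46, 48, 49, 59], [46, 48, 50, 59], [46, 48, 57, 54], [46, 48, 59, 45], [46, 48, 59, 46], [46, 48, 59, 52], [46, 48, 59, 54], [46, 48, 59, 60], [46, 51, 45, 60], [46, 51, 48, 60], [46, 51, 52, 47], [46, 51, 55, 54], [46, 51, 60, 46], [46, 51, 60, 58], [46, 55, 57, 54], [46, 59, 45, 49], [46, 59, 45, 52], [46, 59, 52, 46], [46, 59, 52, 50], [46, 59, 60, 47], [49, 45, 46, 49], [49, 45, 47, 46], [49, 45, 50, 54], [49, 45, 50, 55], [49, 45, 55, 60], [49, 45, 60, 50], [49,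 45, 60, 51], [49, 45, 60, 59], [49, 48, 47, 46], [49, 48, 47, 49], [49, 48, 47, 54], [49, 48, 55, 49], [49, 52, 49, 51], [49, 52, 49, 58], [49, 52, 49, 59], [49, 52, 50, 45], [49, 52, 51, 60], [49, 52, 57, 47], [49, 52, 59, 60], [49, 54, 52, 50], [49, 60, 49, 54], [49, 60, 58, 48], [52, 49, 47, 49], [52, 49, 50, 45], [52, 49, 51, 60], [52, 49, 58, 48], [52, 49, 59, 60], [52, 50, 57, 45], [52, 51, 46, 45], [52, 51, 47, 52], [52, 51, 48, 60], [52, 54, 49, 48], [52, 57, 58, 48], [54, 48, 57, 46]]),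
  ((4, 0), [[], [63], [64], [67], [68], [63, 61], [63, 64], [63, 65], [63, 68], [64, 61], [64, 65], [64, 67], [67, 61], [67, 65], [67, 68], [68, 61], [68, 65], [63, 61, 63], [63, 61, 64], [63, 61, 68], [63, 64, 61], [63, 64, 62], [63, 64, 65], [63, 64, 66], [63, 65, 64], [63, 65, 68], [63, 68, 61], [63, 68, 62], [63, 68, 65], [63, 68, 66], [64, 61, 63], [64, 61, 67], [64, 65, 63], [64, 67, 65], [64, 67, 66], [67, 61, 64], [67, 61, 68], [67, 65, 64], [67, 68, 61], [67, 68, 62], [67, 68, 65], [67, 68, 66], [68, 65, 63], [68, 65, 67], [63, 61, 64, 61], [63, 61, 64, 62], [63, 61, 64, 65], [63, 61, 64, 66], [63, 61, 68, 61], [63, 61, 68, 62], [63, 61, 68, 65], [63, 61, 68, 66], [63, 64, 61, 63], [63, 64, 61, 66], [63, 64, 61, 67], [63, 64, 62, 63], [63, 64, 62, 65], [63, 64, 62, 67], [63, 64, 65, 64], [63, 64, 66, 64], [63, 65, 64,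 65], [63, 65, 64, 66], [63, 65, 68, 65], [63, 65, 68, 66], [63, 68, 61, 62], [63, 68, 61, 63], [63, 68, 62, 63], [63, 68, 65, 67], [63, 68, 66, 67], [64, 65, 63, 61], [64, 65, 63, 62], [64, 67, 65, 64], [64, 67, 66, 64], [67, 61, 64, 65], [67, 61, 64, 66], [63, 61, 64, 65, 66], [63, 61, 68, 61, 68], [63, 61, 68, 62, 68], [63, 61, 68, 65, 67], [63, 61, 68, 66, 67]]),
  ((32, 0), [[], [69], [70], [71], [72], [74], [75], [76], [77], [78], [79], [80], [83], [69, 70], [69, 71], [69, 73], [69, 75], [69, 76], [69, 79], [69, 80], [69, 81], [69, 82], [70, 81], [71, 76], [71, 83], [72, 79], [77, 81]]),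
  ((8, 0), [[], [85], [86], [96]]),
  ((64, 0), [[], [97], [98]])]

/-- An element of order 5. -/
def elt5 : ℕ := 124

/-- An element of order 7. -/
def elt7 : ℕ := 125

/-- An element of order 13. -/
def elt13 : ℕ := 126

end CfsgLib.OmegaSevenMult
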