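import Cfsg.Agent.MTwelveCover.Bound
import Cfsg.Agent.OmegaSeven.Code

/-! A Sylow 3-subgroup of the orthogonal group with fusion, and the certificate for its part of the multiplier (generated data). -/

set_option autoImplicit false
set_option maxRecDepth 10000

namespace CfsgLib.OmegaSevenMult

/-- The field `rules` of `certThree`. -/
def certThreeRules : List (List ℕ × List ℕ) := [([0, 0, 0], []), ([1, 1, 1], []), ([2, 2, 2], []), ([3, 3, 3], []), ([4, 4, 4], []), ([5, 5, 5], []), ([6, 6, 6], []), ([7, 7, 7], []), ([8, 8, 8], []), ([1, 0], [0, 1, 4, 6]), ([2, 0], [0, 2]), ([3, 0], [0, 3, 5, 7]), ([4, 0], [0, 4, 6, 6]), ([5, 0], [0, 5, 7, 7]), ([6, 0], [0, 6]), ([7, 0], [0, 7]), ([8, 0], [0, 8]), ([2, 1], [1, 2, 3]), ([3, 1], [1, 3]), ([4, 1], [1, 4]), ([5, 1], [1, 5]), ([6, 1], [1,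 6]), ([7, 1], [1, 7, 8, 8]), ([8, 1], [1, 8]), ([3, 2], [2, 3]), ([4, 2], [2, 4, 5, 5, 8, 8]), ([5, 2], [2, 5]), ([6, 2], [2, 6, 7, 7]), ([7, 2], [2, 7]), ([8, 2], [2, 8]), ([4, 3], [3, 4]), ([5, 3], [3, 5]), ([6, 3], [3, 6, 8]), ([7, 3], [3, 7]), ([8, 3], [3, 8]), ([5, 4], [4, 5, 8, 8]), ([6, 4], [4, 6]), ([7, 4], [4, 7]), ([8, 4], [4, 8]), ([6, 5], [5, 6]), ([7, 5], [5, 7]), ([8, 5], [5, 8]), ([7, 6], [6, 7]), ([8, 6], [6, 8]), ([8, 7], [7, 8])]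

/-- The field `fus` of `certThree`. -/
def certThreeFus : List (List (List ℕ) × List (List ℕ)) := [([[0, 6, 6], [3], [8], [5], [2], [7]], [[0, 0, 6, 6], [3], [2, 5, 8], [2, 2, 5], [2], [7]]),
    ([[1, 1], [2, 2], [6, 6], [7], [3, 3], [4, 4], [5, 5], [8]], [[1, 1], [2, 2], [1, 1, 4, 6, 6, 8], [3, 5, 5, 7], [3, 3], [1, 1, 4, 4, 8], [3, 3, 5, 5], [8]])]

/-- The field `assoc` of `certThree`. -/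
def certThreeAssoc : List (List ℕ × (ℕ × ℕ) × (ℕ × ℕ)) := [([1, 1, 1, 0], (0, 1), (2, 9)), ([2, 2, 2, 0], (0, 2), (2, 10)), ([2, 2, 2, 1], (0, 2), (2, 17)), ([3, 3, 3, 0], (0, 3), (2, 11)), ([3, 3, 3, 1], (0, 3), (2, 18)), ([4, 4, 4, 0], (0, 4), (2, 12)), ([4, 4, 4, 1], (0, 4), (2, 19)), ([5, 5, 5, 0], (0, 5), (2, 13)), ([6, 6, 6, 0], (0, 6), (2, 14)), ([6, 6, 6, 1], (0, 6), (2, 21)), ([6, 6, 6, 2], (0, 6), (2, 27)), ([7, 7, 7, 0], (0, 7), (2, 15)), ([7, 7, 7, 1], (0, 7), (2, 22)), ([7, 7, 7, 6], (0, 7), (2, 42)), ([8, 8, 8, 0], (0, 8), (2, 16)), ([8, 8, 8, 2], (0, 8), (2, 29)), ([1, 0, 0, 0], (0, 9), (1, 0)), ([2, 1, 0], (0, 17), (1, 9)), ([3, 1, 0], (0, 18), (1, 9)), ([4, 1, 0], (0, 19), (1, 9)), ([5, 1, 0], (0, 20), (1, 9)), ([6, 1, 0], (0, 21), (1, 9)), ([7, 1, 0], (0, 22), (1,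 9)), ([8, 1, 0], (0, 23), (1, 9)), ([3, 2, 0], (0, 24), (1, 10)), ([4, 2, 0], (0, 25), (1, 10)), ([4, 2, 1], (0, 25), (1, 17)), ([5, 2, 1], (0, 26), (1, 17)), ([6, 2, 0], (0, 27), (1, 10)), ([6, 2, 1], (0, 27), (1, 17)), ([7, 2, 1], (0, 28), (1, 17)), ([8, 2, 1], (0, 29), (1, 17)), ([6, 3, 0], (0, 32), (1, 11)), ([6, 3, 1], (0, 32), (1, 18)), ([6, 3, 2], (0, 32), (1, 24)), ([7, 3, 0], (0, 33), (1, 11)), ([6, 4, 3], (0, 36), (1, 30)), ([7, 4, 0], (0, 37), (1, 12)), ([6, 5, 3], (0, 39), (1, 31)), ([7, 6, 3], (0, 42), (1, 32))]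

/-- The field `eqs` of `certThree`. -/
def certThreeEqs : List (List ℕ × List ℕ) := [
    ([1], [9, 9, 9, 21, 19, 36, 21, 21, 19, 19, 1, 36, 36, 4, 6]),
    ([2], [10, 10, 10, 2]),
    ([2], [17, 17, 17, 24, 24, 24, 2, 3]),
    ([3], [11, 11, 11, 33, 31, 40, 33, 33, 31, 31, 3, 40, 40, 5, 7]),
    ([3], [18, 18, 18, 3]),
    ([4], [12, 12, 12, 36, 36, 6, 36, 4, 6]),
    ([4], [19, 19, 19, 4]),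
    ([5], [13, 13, 13, 40, 40, 7, 40, 5, 7]),
    ([6], [14, 14, 14, 6]),
    ([6], [21, 21, 21, 6]),
    ([6], [27, 27, 27, 42, 42, 7, 42, 6, 7]),
    ([7], [15, 15, 15, 7]),
    ([7], [22, 22, 22, 44, 44, 8, 44, 7, 8]),
    ([7], [42, 42, 42, 7]),
    ([8], [16, 16, 16, 8]),
    ([8], [29, 29, 29, 8]),
    ([9, 14, 12, 9, 36, 6, 14, 12, 12, 9, 0, 36, 6, 4, 6], [0]),
    ([17, 11, 10, 9, 27, 25, 43, 43, 44, 44, 44, 44, 34, 34, 33, 33, 32, 31, 31, 30, 44, 44, 8, 40, 40, 39, 5, 7], [9, 10, 17]),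
    ([18, 11, 9, 32, 30, 41, 39, 44], [9, 11, 22, 20, 18, 38, 38, 37, 35, 44, 44, 8, 43, 42]),
    ([19, 12, 9, 36, 6], [9, 12, 21, 21, 19, 36, 36, 6]),
    ([20, 13, 9, 39], [9, 13, 22, 22, 20, 44, 44, 8, 38, 37, 37, 35, 44, 44, 44, 44, 8, 42, 42]),
    ([21, 14, 9], [9, 14, 21, 36]),
    ([22, 16, 16, 15, 9], [9, 15, 22, 38, 38, 37, 43, 43, 42]),
    ([23, 16, 9], [9, 16, 23, 38, 43]),
    ([24, 11, 10], [10, 11, 28, 26, 24]),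
    ([25, 16, 16, 13, 13, 12, 10, 39, 39, 40, 40, 39, 39, 7], [10, 12, 27, 27, 25, 43, 43, 44, 44, 44, 44, 43, 43, 42, 42, 44, 44, 7, 44, 44]),
    ([25, 23, 23, 20, 20, 19, 17], [17, 19, 25, 34, 34, 31, 31, 30]),
    ([26, 20, 17], [17, 20, 26, 31]),
    ([27, 15, 15, 14, 10], [10, 14, 27]),
    ([27, 22, 22, 21, 17, 44, 44, 8], [17, 21, 27, 33, 33, 32, 44, 44]),
    ([28, 22, 17], [17, 22, 29, 29, 28, 34, 34, 33]),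
    ([29, 23, 17], [17, 23, 29, 34]),
    ([32, 16, 14, 11, 42], [11, 14, 32, 41, 39, 44]),
    ([32, 23, 21, 18], [18, 21, 32]),
    ([32, 29, 27, 24], [24, 27, 33, 33, 32, 44, 44]),
    ([33, 15, 11], [11, 15, 33, 40]),
    ([36, 32, 30], [30, 32, 38, 36]),
    ([37, 15, 12], [12, 15, 37, 42, 42]),
    ([39, 32, 31], [31, 32, 41, 39]),
    ([42, 33, 32, 44], [32, 33, 42]),
    ([16, 13, 10, 16, 15, 15, 13, 10, 7, 43, 42, 43, 42, 47, 45], [27, 27, 42, 42, 7, 40, 39, 39, 45, 47, 16, 43, 43]),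
    ([34, 31, 47, 46], [24, 46, 47, 34]),
    ([49, 47, 29], [29, 26, 47, 49]),
    ([23, 21, 21, 19, 1, 23, 21, 21, 19, 55, 53], [1, 53, 55, 21, 21, 21, 21]),
    ([20, 20, 18, 18, 20, 20, 18, 18, 59, 53], [53, 59, 20, 20, 20, 20])]

/-- The presentation, fusions and equations. -/
def certThree : CfsgLib.Schur.Pc.Cert where
  p := 3
  n := 9
  rules := certThreeRules
  fus := certThreeFus
  fusW := 8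
  assoc := certThreeAssoc
  fusEq := [(0, [2, 0], [0, 2]), (0, [2, 1], [1, 2]), (0, [4, 2], [2, 4]), (1, [2, 0], [0, 2]), (1, [6, 0], [0, 6])]
  eqs := certThreeEqs
  e := 0
  adj := []
  combo := []
  fuel := 88

/-- The field `tgt` of `spanThree`. -/
def spanThreeTgt : List ℤ := [0, 0, 0, 0, 0, 0, 0, 0, 0, 0, 1, 0, 0, 0, 0, 0, 0, 0, 0, 0, 0, 0, 0, 0, 0, 0, 0, 0, 0, 0, 0, 0, 0, 0, 0, 0, 0, 0, 0, 0, 0, 0, 0, 0, 0, 0, 0, 0, 0, 0, 0, 0, 0, 0, 0, 0, 0, 0, 0, 0, 0]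

/-- The field `sec` of `spanThree`. -/
def spanThreeSec : List (List ℤ) := [[1, 0, 0, 0, 0, 0, 0, 0, 0, 0, 0, 0, 0, 0, 0, 0, 0, 0, 0, 0, 0, 0, 0, 0, 0, 0, 0, 0, 0, 0, 0, 0, 0, 0, 0, 0, 0, 0, 0, 0, 0, 0, 0, 0, 0, 0, 0, 0, 0, 0, 0, 0, 0, 0, 0, 0, 0, 0, 0, 0, 0],
    [0, 1, 0, 0, 0, 0, 0, 0, 0, 0, 0, 0, 0, 0, 0, 0, 0, 0, 0, 0, 0, 0, 0, 0, 0, 0, 0, 0, 0, 0, 0, 0, 0, 0, 0, 0, 0, 0, 0, 0, 0, 0, 0, 0, 0, 0, 0, 0, 0, 0, 0, 0, 0, 0, 0, 0, 0, 0, 0, 0, 0],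
    [0, 0, 1, 0, 0, 0, 0, 0, 0, 0, 0, 0, 0, 0, 0, 0, 0, 0, 0, 0, 0, 0, 0, 0, 0, 0, 0, 0, 0, 0, 0, 0, 0, 0, 0, 0, 0, 0, 0, 0, 0, 0, 0, 0, 0, 0, 0, 0, 0, 0, 0, 0, 0, 0, 0, 0, 0, 0, 0, 0, 0],
    [0, 0, 0, 0, 0, 0, 0, 0, 0, 0, 0, 0, 0, 0, 0, 0, 0, (-1), 0, 0, 0, 0, 0, 0, 0, 0, 0, 0, 0, 0, 0, 0, 0, 0, 0, 0, 0, 0, 0, 0, 0, 0, 0, 0, 0, 0, 0, 0, 0, 0, 0, 0, 0, 0, 0, 0, 0, 0, 0, 0, 0],
    [0, 0, 0, 0, 0, 0, (-1), 0, 0, (-1), 0, 0, (-1), 0, 0, 0, 0, 0, 0, 0, 0, 0, 0, 0, 0, 0, 0, 0, 0, 0, 0, 0, 0, 0, 0, 0, 0, 0, 0, 0, 0, 0, 0, 0, 0, 0, 0, 0, 0, 0, 0, 0, 0, 0, 0, 0, 0, 0, 0, 0, 0],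
    [0, 0, 0, 0, 0, 0, 0, (-1), (-2), 0, 0, (-3), 0, 1, 0, 0, 0, 0, 0, 0, 0, 0, (-4), 0, 0, 1, 0, (-1), 0, 0, 0, 0, 0, 0, 0, 0, 0, 0, 0, 0, 0, 0, 0, 0, 0, 0, 0, 0, 0, 0, 0, 0, 0, 0, 0, 0, 0, 0, 0, 0, 0],
    [0, 0, 0, 0, 0, 0, 0, 0, 0, 1, 0, 0, (-1), 0, 0, 0, 0, 0, 0, 0, 0, 0, 0, 0, 0, 0, 0, 0, 0, 0, 0, 0, 0, 0, 0, 0, 0, 0, 0, 0, 0, 0, 0, 0, 0, 0, 0, 0, 0, 0, 0, 0, 0, 0, 0, 0, 0, 0, 0, 0, 0],
    [0, 0, 0, 0, 0, 0, 0, 0, 0, 0, 0, (-1), 0, 1, 0, 0, 0, 0, 0, 0, 0, 0, 0, 0, 0, 0, 0, (-1), 0, 0, 0, 0, 0, 0, 0, 0, 0, 0, 0, 0, 0, 0, 0, 0, 0, 0, 0, 0, 0, 0, 0, 0, 0, 0, 0, 0, 0, 0, 0, 0, 0],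
    [0, 0, 0, 0, 0, 0, 0, 0, 0, 0, 0, 0, 0, 0, 0, 0, 0, 0, 0, 0, 0, 0, 0, 0, 0, 0, 0, 0, 0, 0, 0, 0, 1, 0, 0, (-1), 0, 0, 0, 0, 0, 0, 0, 0, 0, 0, 0, 0, 0, 0, 0, 0, 0, 0, 0, 0, 0, 0, 0, 0, 0]]

/-- The field `alpha` of `spanThree`. -/
def spanThreeAlpha : List ℤ := [0, 0, 0, 0, 0, 0, 0, 0, 0, 0, 1, 0, 0, 0, 0, 0, 2, 0, 0, 0, 2, 0, 0, 0, 0, 0, 0, 0, 0, 0, 1, 0, 0, 0, 0, 0, 0, 1, 0, 2, 0, 0, 0, 0, 0]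

/-- The field `beta` of `spanThree`. -/
def spanThreeBeta : List (List ℤ) := [[1, 0, 0, 0, 0, 0, 0, 0, 0], [0, 1, 0, 0, 0, 0, 0, 0, 0], [0, 0, 1, 0, 0, 0, 0, 0, 0], [0, 0, 0, 3, 0, 0, 0, 0, 0], [0, 0, 0, 0, 3, 0, 0, 0, 0], [0, 0, 0, 0, 0, 3, 0, 0, 0], [0, 0, 0, 0, 3, 0, 3, 0, 0], [0, 0, 0, 0, 0, (-3), 0, 3, 0], [0, 0, 0, 0, 0, 0, 0, 0, 3], [0, 0, 0, 0, (-2), 0, (-1), 0, 0], [0, 0, 0, 0, 0, 0, 0, 0, 0], [0, 0, 0, 0, 0, 0, 0, (-1), 0], [0, 0, 0, 0, (-2), 0, (-2), 0, 0], [0, 0, 0, 0, 0, 2, 0, (-2), 0], [0, 0, 0, 0, 0, 0, 0, 0, 0], [0, 0, 0, 0, 0, 0, 0, 0, 0], [0, 0, 0, 0, 0, 0, 0, 0, 0], [0, 0, 0, (-1), 0, 0, 0, 0, 0], [0, 0, 0, 0, 0, 0, 0, 0, 0], [0, 0, 0, 0, 0, 0, 0, 0, 0], [0, 0, 0, 0, 0, 0, 0, 0, 0], [0, 0, 0, 0, 0, 0, 0, 0, 0], [0, 0, 0, 0, 0, 0, 0, 0, (-2)], [0, 0, 0, 0, 0, 0, 0,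 0, 0], [0, 0, 0, 0, 0, 0, 0, 0, 0], [0, 0, 0, 0, 0, (-2), 0, 0, (-2)], [0, 0, 0, 0, 0, 0, 0, 0, 0], [0, 0, 0, 0, 0, 2, 0, (-2), 0], [0, 0, 0, 0, 0, 0, 0, 0, 0], [0, 0, 0, 0, 0, 0, 0, 0, 0], [0, 0, 0, 0, 0, 0, 0, 0, 0], [0, 0, 0, 0, 0, 0, 0, 0, 0], [0, 0, 0, 0, 0, 0, 0, 0, (-1)], [0, 0, 0, 0, 0, 0, 0, 0, 0], [0, 0, 0, 0, 0, 0, 0, 0, 0], [0, 0, 0, 0, 0, 0, 0, 0, (-2)], [0, 0, 0, 0, 0, 0, 0, 0, 0], [0, 0, 0, 0, 0, 0, 0, 0, 0], [0, 0, 0, 0, 0, 0, 0, 0, 0], [0, 0, 0, 0, 0, 0, 0, 0, 0], [0, 0, 0, 0, 0, 0, 0, 0, 0], [0, 0, 0, 0, 0, 0, 0, 0, 0], [0, 0, 0, 0, 0, 0, 0, 0, 0], [0, 0, 0, 0, 0, 0, 0, 0, 0], [0, 0, 0, 0, 0, 0, 0, 0, 0]]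

/-- Part of `spanThreeCombo`. -/
def spanThreeCombo0 : List (List (ℕ × ℤ)) := [[],
  [],
  [],
  [(2, (-1)), (27, 3), (41, 3)],
  [(0, (-1)), (5, (-1)), (6, 1), (9, (-3)), (19, 6)],
  [(1, 48), (3, (-4)), (7, 35), (10, (-36)), (11, 144), (13, 81), (14, (-63)), (17, (-3)), (18, 6), (20, (-6)), (22, 6), (23, 60), (25, (-21)), (26, 3), (28, 144), (29, 3), (31, (-12)), (32, (-231)), (33, (-6)), (35, (-213)), (36, (-78)), (37, (-162)), (38, 237), (39, (-411)), (40, 72)],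
  [(5, (-2)), (21, 6)],
  [(1, (-36)), (3, 3), (7, (-26)), (10, 27), (11, (-108)), (13, (-60)), (14, 45), (15, (-12)), (17, 3), (18, (-6)), (20, 6), (22, (-6)), (23, (-36)), (25, 15), (26, (-3)), (27, 3), (28, (-108)), (29, (-3)), (30, 15), (31, (-18)), (32, 171), (33, 6), (34, (-6)), (35, 159), (36, 54), (37, 120), (38, (-177)), (39, 291), (40, (-54))]]

/-- Part of `spanThreeCombo`. -/
def spanThreeCombo1 : List (List (ℕ × ℤ)) := [[(1, 24), (7, 18), (10, (-18)), (11, 72), (12, 4), (13, 39), (14, (-27)), (15, 24), (20, (-3)), (22, 6), (23, 24), (25, (-9)), (28, 72), (29, 3), (30, (-30)), (31, 60), (32, (-111)), (34, 12), (35, (-108)), (36, (-33)), (37, (-78)), (38, 111), (39, (-165)), (40, 36)],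
  [(5, 1), (21, (-3))],
  [],
  [(1, (-4)), (7, (-3)), (10, 3), (11, (-12)), (13, (-7)), (14, 6), (23, (-8)), (25, 2), (28, (-12)), (32, 20), (35, 19), (36, 8), (37, 14), (38, (-20)), (39, 36), (40, (-6))],
  [(5, 1), (21, (-3))],
  [(1, 24), (3, (-2)), (7, 17), (10, (-18)), (11, 72), (13, 40), (14, (-30)), (15, 8), (17, (-2)), (18, 4), (20, (-4)), (22, 4), (23, 24), (25, (-10)), (26, 2), (27, (-2)), (28, 72), (29, 2), (30, (-10)), (31, 12), (32, (-114)), (33, (-4)), (34, 4), (35, (-105)), (36, (-36)), (37, (-80)), (38, 118), (39, (-194)), (40, 36)],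
  [(0, (-1)), (5, (-1)), (6, 1), (8, (-1)), (9, (-3)), (16, (-1)), (19, 6), (21, (-2))],
  [(11, (-1)), (28, (-1))]]

/-- Part of `spanThreeCombo`. -/
def spanThreeCombo2 : List (List (ℕ × ℤ)) := [[(1, (-2)), (7, (-2)), (10, 2), (11, (-8)), (13, (-4)), (14, 3), (23, (-4)), (25, 1), (28, (-8)), (32, 12), (35, 12), (36, 4), (37, 8), (38, (-12)), (39, 20), (40, (-4))],
  [],
  [(4, 1), (44, 1)],
  [(6, (-1)), (33, 2), (43, (-1))],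
  [(1, 6), (7, 4), (10, (-4)), (11, 16), (12, 1), (13, 8), (14, (-6)), (15, 8), (18, 1), (20, (-1)), (22, 1), (23, 5), (25, (-2)), (26, 1), (27, (-2)), (28, 16), (29, 1), (30, (-10)), (31, 18), (32, (-24)), (33, (-2)), (34, 4), (35, (-24)), (36, (-8)), (37, (-16)), (38, 25), (39, (-34)), (40, 8)],
  [(9, 1), (19, (-2)), (21, 2)],
  [(1, (-16)), (7, (-12)), (10, 12), (11, (-48)), (12, (-3)), (13, (-26)), (14, 18), (15, (-16)), (20, 2), (22, (-4)), (23, (-16)), (25, 6), (28, (-48)), (29, (-2)), (30, 20), (31, (-40)), (32, 74), (34, (-8)), (35, 72), (36, 22), (37, 52), (38, (-74)), (39, 109), (40, (-24))],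
  [(33, 1)]]

/-- Part of `spanThreeCombo`. -/
def spanThreeCombo3 : List (List (ℕ × ℤ)) := [[(27, (-1)), (41, (-1))],
  [(1, (-60)), (3, 3), (7, (-44)), (10, 45), (11, (-180)), (12, (-4)), (13, (-100)), (14, 75), (15, (-28)), (17, 3), (18, (-6)), (20, 8), (22, (-10)), (23, (-68)), (25, 25), (26, (-3)), (27, 3), (28, (-180)), (29, (-5)), (30, 35), (31, (-58)), (32, 285), (33, 6), (34, (-14)), (35, 269), (36, 92), (37, 200), (38, (-291)), (39, 469), (40, (-90))],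
  [(42, (-1))],
  [(1, 28), (3, (-2)), (7, 20), (10, (-21)), (11, 84), (13, 47), (14, (-36)), (15, 8), (17, (-2)), (18, 4), (20, (-4)), (22, 4), (23, 32), (25, (-12)), (26, 2), (27, (-2)), (28, 84), (29, 2), (30, (-10)), (31, 12), (32, (-134)), (33, (-4)), (34, 4), (35, (-124)), (36, (-44)), (37, (-94)), (38, 138), (39, (-230)), (40, 42)],
  [(24, (-1)), (42, 1)],
  [(15, (-2)), (30, 2), (31, (-4)), (34, (-1)), (39, (-2))],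
  [(1, 11), (7, 8), (10, (-8)), (11, 32), (12, 2), (13, 16), (14, (-12)), (15, 16), (18, 2), (20, (-2)), (22, 2), (23, 10), (25, (-4)), (26, 1), (27, (-2)), (28, 32), (29, 2), (30, (-20)), (31, 38), (32, (-48)), (33, (-2)), (34, 8), (35, (-48)), (36, (-16)), (37, (-32)), (38, 50), (39, (-68)), (40, 16)],
  [(27, (-1))]]

/-- Part of `spanThreeCombo`. -/
def spanThreeCombo4 : List (List (ℕ × ℤ)) := [[(1, (-8)), (7, (-6)), (10, 6), (11, (-24)), (12, (-2)), (13, (-13)), (14, 9), (15, (-16)), (20, 1), (22, (-2)), (23, (-8)), (25, 3), (28, (-24)), (29, (-2)), (30, 20), (31, (-40)), (32, 37), (34, (-8)), (35, 36), (36, 11), (37, 26), (38, (-37)), (39, 45), (40, (-12))],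
  [(15, 4), (30, (-5)), (31, 10), (34, 2), (39, 4)],
  [(31, (-1))],
  [(1, (-8)), (7, (-6)), (10, 6), (11, (-24)), (12, (-2)), (13, (-13)), (14, 9), (15, (-16)), (20, 1), (22, (-2)), (23, (-8)), (25, 3), (28, (-24)), (29, (-2)), (30, 20), (31, (-40)), (32, 37), (34, (-8)), (35, 36), (36, 11), (37, 26), (38, (-37)), (39, 45), (40, (-12))],
  [(21, (-1))],
  [(1, (-5)), (7, (-4)), (10, 4), (11, (-16)), (13, (-9)), (14, 6), (22, (-1)), (23, (-6)), (25, 2), (28, (-16)), (32, 24), (35, 24), (36, 8), (37, 18), (38, (-24)), (39, 40), (40, (-8))],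
  [(36, (-1))],
  [(1, (-2)), (7, (-2)), (10, 2), (11, (-8)), (13, (-3)), (14, 3), (23, (-4)), (25, 1), (28, (-8)), (32, 11), (35, 12), (36, 4), (37, 6), (38, (-11)), (39, 19), (40, (-4))]]

/-- Part of `spanThreeCombo`. -/
def spanThreeCombo5 : List (List (ℕ × ℤ)) := [[(35, (-1))],
  [(38, (-1))],
  [(13, 1), (37, (-2))],
  [(23, (-1)), (36, 1)],
  [(39, 1)]]

/-- The field `combo` of `spanThree`. -/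
def spanThreeCombo : List (List (ℕ × ℤ)) :=
  spanThreeCombo0 ++ spanThreeCombo1 ++ spanThreeCombo2 ++ spanThreeCombo3 ++ spanThreeCombo4 ++ spanThreeCombo5

/-- The field `Q` of `spanThree`. -/
def spanThreeQ : List (List ℤ) := [[1, 0, 0, 0, 0, 0, 0, 0, 0], [0, 1, 0, 0, 0, 0, 0, 0, 0], [0, 0, 1, 0, 0, 0, 0, 0, 0], [0, 0, 0, 3, 0, 0, 0, 0, 0], [0, 0, 0, 0, 3, 0, 0, 0, 0], [0, 0, 0, 0, 0, 3, 0, 0, 0], [0, 0, 0, 0, 3, 0, 3, 0, 0], [0, 0, 0, 0, 0, (-3), 0, 3, 0], [0, 0, 0, 0, 0, 0, 0, 0, 3]]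

/-- The spanning certificate. -/
def spanThree : CfsgLib.MTwelveCover.Span where
  tgt := spanThreeTgt
  sec := spanThreeSec
  alpha := spanThreeAlpha
  beta := spanThreeBeta
  combo := spanThreeCombo
  sq := [(1, (-1))]
  D := 3
  Q := spanThreeQ

/-- The generators of the Sylow subgroup. -/
def sylThree : List ℕ := [113, 114, 115, 116, 117, 118, 119, 120, 121]

/-- The conjugating elements. -/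
def conjThree : List ℕ := [122, 123]

/-- A chain of orbits of the Sylow subgroup. -/
def levelsThree : List (CfsgLib.OmegaSeven.Row × List (List ℕ)) := [
  ((2, 0), [[], [8], [8, 8], [7], [7, 8], [7, 8, 8], [7, 7], [7, 7, 8], [7, 7, 8, 8], [5], [5, 8], [5, 8, 8], [5, 7], [5, 7, 8], [5, 7, 8, 8], [5, 7, 7], [5, 7, 7, 8], [5, 7, 7, 8, 8], [5, 5], [5, 5, 8], [5, 5, 8, 8], [5, 5, 7], [5, 5, 7, 8], [5, 5, 7, 8, 8], [5, 5, 7, 7], [5, 5, 7, 7, 8], [5, 5, 7, 7, 8, 8], [3], [3, 8], [3, 6], [3, 7], [3, 7, 8], [3, 6, 7], [3, 7, 7], [3, 7, 7, 8], [3, 6, 7, 7], [3, 5], [3, 5, 8], [3, 5, 6], [3, 5, 7], [3, 5, 7, 8], [3, 5, 6, 7], [3, 5, 7, 7], [3, 5, 7, 7, 8], [3, 5, 6, 7, 7], [3, 5, 5], [3, 5, 5, 8], [3, 5, 5, 6], [3, 5, 5, 7], [3, 5, 5, 7, 8], [3, 5, 5, 6, 7], [3, 5, 5, 7, 7], [3, 5, 5, 7, 7,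 8], [3, 5, 5, 6, 7, 7], [3, 3], [3, 3, 8], [3, 3, 8, 8], [3, 3, 7], [3, 3, 7, 8], [3, 3, 7, 8, 8], [3, 3, 7, 7], [3, 3, 7, 7, 8], [3, 3, 7, 7, 8, 8], [3, 3, 5], [3, 3, 5, 8], [3, 3, 5, 8, 8], [3, 3, 5, 7], [3, 3, 5, 7, 8], [3, 3, 5, 7, 8, 8], [3, 3, 5, 7, 7], [3, 3, 5, 7, 7, 8], [3, 3, 5, 7, 7, 8, 8], [3, 3, 5, 5], [3, 3, 5, 5, 8], [3, 3, 5, 5, 8, 8], [3, 3, 5, 5, 7], [3, 3, 5, 5, 7, 8], [3, 3, 5, 5, 7, 8, 8], [3, 3, 5, 5, 7, 7], [3, 3, 5, 5, 7, 7, 8], [3, 3, 5, 5, 7, 7, 8, 8], [2], [2, 8], [2, 8, 8], [2, 7], [2, 7, 8], [2, 7, 8, 8], [2, 7, 7], [2, 7, 7, 8], [2, 7, 7, 8, 8], [2, 5], [2, 4], [2, 4, 8], [2, 5, 7], [2, 4, 7], [2, 4, 7, 8], [2, 5, 7, 7], [2, 4, 7, 7], [2, 4, 7, 7, 8], [2, 5, 5], [2, 4, 5], [2, 4, 5, 8], [2, 5, 5, 7], [2, 4, 5, 7], [2, 4, 5, 7, 8], [2, 5, 5, 7, 7], [2, 4,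 5, 7, 7], [2, 4, 5, 7, 7, 8], [2, 3], [2, 3, 8], [2, 3, 8, 8], [2, 3, 7], [2, 3, 7, 8], [2, 3, 6], [2, 3, 7, 7], [2, 3, 6, 6], [2, 3, 6, 7], [2, 3, 5], [2, 3, 4], [2, 3, 4, 8], [2, 3, 5, 7], [2, 3, 4, 7], [2, 3, 5, 6], [2, 3, 5, 7, 7], [2, 3, 5, 6, 6], [2, 3, 5, 6, 7], [2, 3, 5, 5], [2, 3, 4, 5], [2, 3, 4, 5, 8], [2, 3, 5, 5, 7], [2, 3, 4, 5, 7], [2, 3, 5, 5, 6], [2, 3, 5, 5, 7, 7], [2, 3, 5, 5, 6, 6], [2, 3, 5, 5, 6, 7], [2, 3, 3], [2, 3, 3, 8], [2, 3, 3, 8, 8], [2, 3, 3, 7], [2, 3, 3, 6], [2, 3, 3, 6, 8], [2, 3, 3, 7, 7], [2, 3, 3, 6, 7], [2, 3, 3, 6, 6], [2, 3, 3, 5], [2, 3, 3, 4], [2, 3, 3, 4, 8], [2, 3, 3, 5, 7], [2, 3, 3, 5, 6], [2, 3, 3, 4, 6], [2, 3, 3, 5, 7, 7], [2, 3, 3, 5, 6, 7], [2, 3, 3, 5, 6, 6], [2, 3, 3, 5, 5], [2, 3, 3, 4, 5], [2, 3, 3, 4, 5, 8], [2, 3, 3, 5, 5, 7],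 [2, 3, 3, 5, 5, 6], [2, 3, 3, 4, 5, 6], [2, 3, 3, 5, 5, 7, 7], [2, 3, 3, 5, 5, 6, 7], [2, 3, 3, 5, 5, 6, 6], [2, 2], [2, 2, 8], [2, 2, 8, 8], [2, 2, 7], [2, 2, 7, 8], [2, 2, 7, 8, 8], [2, 2, 6], [2, 2, 6, 8], [2, 2, 6, 8, 8], [2, 2, 5], [2, 2, 5, 8], [2, 2, 4, 4], [2, 2, 5, 7], [2, 2, 5, 7, 8], [2, 2, 4, 4, 7], [2, 2, 5, 6], [2, 2, 5, 6, 8], [2, 2, 4, 4, 6], [2, 2, 5, 5], [2, 2, 5, 5, 8], [2, 2, 4], [2, 2, 5, 5, 7], [2, 2, 5, 5, 7, 8], [2, 2, 4, 7], [2, 2, 5, 5, 6], [2, 2, 5, 5, 6, 8], [2, 2, 4, 6], [2, 2, 3], [2, 2, 3, 8], [2, 2, 3, 8, 8], [2, 2, 3, 7], [2, 2, 3, 7, 8], [2, 2, 3, 7, 8, 8], [2, 2, 3, 7, 7], [2, 2, 3, 7, 7, 8], [2, 2, 3, 6], [2, 2, 3, 5], [2, 2, 3, 5, 8], [2, 2, 3, 4, 4], [2, 2, 3, 5, 7], [2, 2, 3, 5, 7, 8], [2, 2, 3, 4, 4, 7], [2, 2, 3, 5, 7, 7], [2, 2, 3, 4, 4, 6],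 [2, 2, 3, 5, 6], [2, 2, 3, 5, 5], [2, 2, 3, 5, 5, 8], [2, 2, 3, 4], [2, 2, 3, 5, 5, 7], [2, 2, 3, 5, 5, 7, 8], [2, 2, 3, 4, 7], [2, 2, 3, 5, 5, 7, 7], [2, 2, 3, 4, 6], [2, 2, 3, 5, 5, 6], [2, 2, 3, 3], [2, 2, 3, 3, 8], [2, 2, 3, 3, 8, 8], [2, 2, 3, 3, 7], [2, 2, 3, 3, 7, 8], [2, 2, 3, 3, 6, 6], [2, 2, 3, 3, 7, 7], [2, 2, 3, 3, 6], [2, 2, 3, 3, 6, 8], [2, 2, 3, 3, 5], [2, 2, 3, 3, 5, 8], [2, 2, 3, 3, 4, 4], [2, 2, 3, 3, 5, 7], [2, 2, 3, 3, 5, 7, 8], [2, 2, 3, 3, 5, 6, 6], [2, 2, 3, 3, 5, 7, 7], [2, 2, 3, 3, 5, 6], [2, 2, 3, 3, 5, 6, 8], [2, 2, 3, 3, 5, 5], [2, 2, 3, 3, 5, 5, 8], [2, 2, 3, 3, 4], [2, 2, 3, 3, 5, 5, 7], [2, 2, 3, 3, 4, 6, 6], [2, 2, 3, 3, 4, 7], [2, 2, 3, 3, 4, 6], [2, 2, 3, 3, 5, 5, 6], [2, 2, 3, 3, 4, 7, 7]]),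
  ((4, 0), [[], [6], [6, 6], [4], [4, 6], [4, 6, 6], [4, 4], [4, 4, 6], [4, 4, 6, 6], [1], [1, 6], [1, 6, 6], [1, 4], [1, 4, 6], [1, 4, 6, 6], [1, 4, 4], [1, 4, 4, 6], [1, 4, 4, 6, 6], [1, 1], [1, 1, 6], [1, 1, 6, 6], [1, 1, 4], [1, 1, 4, 6], [1, 1, 4, 6, 6], [1, 1, 4, 4], [1, 1, 4, 4, 6], [1, 1, 4, 4, 6, 6]]),
  ((1, 0), [[], [0], [0, 0]])]

end CfsgLib.OmegaSevenMult
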