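import Cfsg.Agent.OmegaSevenMult.Tables
import Cfsg.Agent.OmegaSevenMult.ThreeData

/-! The kernel checks for the prime 3. -/

set_option autoImplicit false
set_option Elab.async false
set_option maxRecDepth 100000

namespace CfsgLib.OmegaSevenMult

theorem sylowThree_ok : sylowOK certThree.rules certThree.fus certThree.fusW sylThree conjThree levelsThree
    certThree.n (3 ^ 9) = true := by decide +kernel

theorem spanThree_ok : MTwelveCover.spanOK certThree spanThree 3 = true := by decide +kernel

end CfsgLib.OmegaSevenMult
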