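import Cfsg.Agent.MTwelveCover.Bound
import Cfsg.Agent.OmegaSeven.Code

/-! A Sylow 2-subgroup of the orthogonal group with fusion, and the certificate for its part of the multiplier (generated data). -/

set_option autoImplicit false
set_option maxRecDepth 10000

namespace CfsgLib.OmegaSevenMult

/-- The field `rules` of `certTwo`. -/
def certTwoRules : List (List ℕ × List ℕ) := [([0, 0], []), ([1, 1], []), ([2, 2], []), ([3, 3], []), ([4, 4], []), ([5, 5], []), ([6, 6], []), ([7, 7], []), ([8, 8], []), ([1, 0], [0, 1, 2, 5, 7]), ([2, 0], [0, 2, 7]), ([3, 0], [0, 3, 4, 7]), ([4, 0], [0, 4]), ([5, 0], [0, 5, 7]), ([6, 0], [0, 6, 7]), ([7, 0], [0, 7]), ([8, 0], [0, 8]), ([2, 1], [1, 2]), ([3, 1], [1, 3, 6, 7]), ([4, 1], [1, 4, 7, 8]), ([5, 1], [1, 5]), ([6, 1], [1, 6]), ([7, 1], [1, 7]), ([8, 1], [1, 8]), ([3, 2], [2, 3, 6, 7, 8]), ([4, 2], [2, 4, 7]), ([5, 2],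 [2, 5]), ([6, 2], [2, 6]), ([7, 2], [2, 7]), ([8, 2], [2, 8]), ([4, 3], [3, 4, 8]), ([5, 3], [3, 5, 6, 7]), ([6, 3], [3, 6, 8]), ([7, 3], [3, 7, 8]), ([8, 3], [3, 8]), ([5, 4], [4, 5, 7]), ([6, 4], [4, 6, 8]), ([7, 4], [4, 7]), ([8, 4], [4, 8]), ([6, 5], [5, 6]), ([7, 5], [5, 7]), ([8, 5], [5, 8]), ([7, 6], [6, 7]), ([8, 6], [6, 8]), ([8, 7], [7, 8])]

/-- The field `fus` of `certTwo`. -/
def certTwoFus : List (List (List ℕ) × List (List ℕ)) := [([[5, 8], [2, 5, 6], [1, 6, 7], [1, 7], [6, 7], [5]], [[2, 5], [1, 5, 6, 8], [5, 6, 7], [1, 5, 7], [1], [6, 7]]),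
    ([[1, 3, 5], [1, 2, 3, 4, 6, 7, 8], [4, 7, 8], [3]], [[1, 3, 5], [2, 3, 4, 5, 6, 8], [1, 2, 6], [1, 5, 6, 7]]),
    ([[2, 4, 7, 8], [0, 2, 4, 5, 7], [4], [7]], [[0, 1, 4, 5, 6, 7], [4, 7], [0, 4, 7], [2, 5, 7]])]

/-- The field `assoc` of `certTwo`. -/
def certTwoAssoc : List (List ℕ × (ℕ × ℕ) × (ℕ × ℕ)) := [([1, 1, 0], (0, 1), (1, 9)), ([2, 2, 0], (0, 2), (1, 10)), ([3, 3, 0], (0, 3), (1, 11)), ([3, 3, 1], (0, 3), (1, 18)), ([4, 4, 0], (0, 4), (1, 12)), ([4, 4, 1], (0, 4), (1, 19)), ([4, 4, 2], (0, 4), (1, 25)), ([4, 4, 3], (0, 4), (1, 30)), ([5, 5, 0], (0, 5), (1, 13)), ([6, 6, 0], (0, 6), (1, 14)), ([6, 6, 3], (0, 6), (1, 32)), ([7, 7, 2], (0, 7), (1, 28)), ([7, 7, 3], (0, 7), (1, 33)), ([1, 0, 0], (0, 9), (1, 0)), ([2, 0, 0], (0, 10), (1, 0)), ([3, 0, 0], (0, 11), (1, 0)), ([6, 0, 0], (0, 14), (1, 0)), ([2, 1, 0], (0, 17), (1, 9)), ([3, 1, 1], (0, 18),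 (1, 1)), ([3, 1, 0], (0, 18), (1, 9)), ([4, 1, 1], (0, 19), (1, 1)), ([8, 1, 0], (0, 23), (1, 9)), ([4, 2, 2], (0, 25), (1, 2)), ([4, 2, 1], (0, 25), (1, 17)), ([8, 2, 0], (0, 29), (1, 10)), ([4, 3, 3], (0, 30), (1, 3)), ([5, 3, 0], (0, 31), (1, 11)), ([6, 3, 3], (0, 32), (1, 3)), ([6, 3, 0], (0, 32), (1, 11)), ([7, 3, 3], (0, 33), (1, 3)), ([6, 4, 0], (0, 36), (1, 12)), ([6, 4, 2], (0, 36), (1, 25))]

/-- The field `fusEq` of `certTwo`. -/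
def certTwoFusEq : List (ℕ × List ℕ × List ℕ) := [(0, [4, 0], [0, 4]), (0, [5, 0], [0, 5]), (0, [4, 3], [3, 4]), (0, [5, 3], [3, 5]), (0, [5, 4], [4, 5]), (1, [2, 0], [0, 2]), (1, [2, 1], [1, 2]), (1, [3, 2], [2, 3]), (2, [1, 0], [0, 1]), (2, [3, 1], [1, 3])]

/-- The field `eqs` of `certTwo`. -/
def certTwoEqs : List (List ℕ × List ℕ) := [
    ([1], [9, 9, 22, 20, 17, 1, 28, 26, 2, 40, 5, 7]),
    ([2], [10, 10, 28, 2, 7]),
    ([3], [11, 11, 33, 30, 3, 44, 8, 37, 4, 7]),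
    ([3], [18, 18, 33, 32, 3, 44, 8, 42, 6, 7]),
    ([4], [12, 12, 4]),
    ([4], [19, 19, 38, 37, 4, 44, 7, 8]),
    ([4], [25, 25, 37, 4, 7]),
    ([4], [30, 30, 38, 4, 8]),
    ([5], [13, 13, 40, 5, 7]),
    ([6], [14, 14, 42, 6, 7]),
    ([6], [32, 32, 43, 6, 8]),
    ([7], [28, 28, 7]),
    ([7], [33, 33, 44, 7, 8]),
    ([9, 15, 13, 10, 9, 0, 28, 26, 2, 7, 5, 7], [0]),
    ([10, 15, 10, 0, 7], [0]),
    ([11, 15, 12, 11, 0, 37, 4, 7], [0]),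
    ([14, 15, 14, 0, 7], [0]),
    ([17, 10, 9, 28, 26, 2, 7], [9, 10, 22, 17, 28, 2, 40, 7]),
    ([18, 22, 21, 18, 1, 42, 6, 7], [1]),
    ([18, 15, 14, 11, 9, 33, 31, 7, 38, 36, 35, 42, 8, 7, 6, 7], [9, 11, 22, 19, 18, 37, 36, 44, 44, 7, 8, 28, 27, 25, 24, 38, 37, 36, 44, 8, 7, 6, 40, 7]),
    ([19, 23, 22, 19, 1, 44, 7, 8], [1]),
    ([23, 16, 9], [9, 16, 23, 29, 41, 44]),
    ([25, 28, 25, 2, 7], [2]),
    ([25, 22, 19, 17, 44, 7], [17, 19, 29, 28, 25, 7]),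
    ([29, 16, 10], [10, 16, 29, 44]),
    ([30, 34, 30, 3, 8], [3]),
    ([31, 15, 14, 13, 11, 40, 7, 7], [11, 13, 33, 31, 7, 38, 36, 35, 42, 8, 7]),
    ([32, 34, 32, 3, 8], [3]),
    ([32, 16, 14, 11, 42, 7], [11, 14, 33, 32, 44, 8, 37, 36, 44, 44, 7]),
    ([33, 34, 33, 3, 8], [3]),
    ([36, 16, 14, 12], [12, 14, 37, 36, 44]),
    ([36, 29, 27, 25, 42], [25, 27, 36, 44]),
    ([49, 45, 43, 44], [20, 17, 45, 49, 40, 39]),
    ([28, 27, 40, 39, 50, 45, 41, 5], [45, 50, 5]),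
    ([1, 49, 48, 42, 7], [22, 20, 1, 48, 49, 22, 21, 7]),
    ([22, 21, 40, 39, 7, 50, 48, 40], [42, 7, 48, 50, 20]),
    ([22, 21, 50, 49, 40, 39], [49, 50]),
    ([21, 17, 1, 32, 41, 39, 53, 51, 35, 7], [20, 18, 1, 40, 39, 28, 27, 26, 24, 41, 40, 39, 43, 42, 6, 44, 7, 43, 51, 53, 23, 22, 19, 44, 7, 8, 30, 41]),
    ([27, 2, 32, 38, 36, 8, 39, 6, 53, 52, 38, 37, 36, 4, 44, 8, 7], [23, 21, 20, 19, 18, 17, 37, 36, 44, 44, 7, 8, 39, 6, 29, 26, 25, 24, 2, 38, 37, 36, 44, 8, 7, 39, 43, 6, 52, 53, 23, 22, 19, 44, 7, 8, 25, 33, 30, 44, 8, 37, 4, 42, 7]),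
    ([22, 21, 20, 1, 28, 27, 26, 42, 6, 54, 53, 34, 33, 30, 44, 8], [21, 17, 1, 39, 6, 53, 54]),
    ([15, 12, 22, 19, 44, 7, 38, 4, 41, 43, 44, 58, 57, 16, 15, 12, 10, 37, 7, 29, 25, 2, 38, 37, 4, 41, 40, 44, 7], [37, 36, 35, 4, 42, 44, 7, 44, 57, 58, 28, 26, 25, 2, 40, 7, 35, 4, 7]),
    ([37, 35, 7, 60, 58, 7], [28, 25, 7, 58, 60, 15, 28, 37, 40, 7])]

/-- The presentation, fusions and equations. -/
def certTwo : CfsgLib.Schur.Pc.Cert where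
  p := 2
  n := 9
  rules := certTwoRules
  fus := certTwoFus
  fusW := 6
  assoc := certTwoAssoc
  fusEq := certTwoFusEq
  eqs := certTwoEqs
  e := 0
  adj := []
  combo := []
  fuel := 144

/-- The field `tgt` of `spanTwo`. -/
def spanTwoTgt : List ℤ := [0, 0, 0, 0, 0, 0, 0, 1, 0, 0, 2, 0, 0, 0, 0, 0, 0, 0, 0, 0, 0, 0, 0, 0, 0, 0, 0, 0, 0, 0, 0, 0, 0, 0, 0, 0, 0, 0, 0, 0, 0, 0, 0, 0, 0, 0, 0, 0, 0, 0, 0, 0, 0, 0, 0, 0, 0, 0, 0, 0, 0, 0, 0]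

/-- The field `sec` of `spanTwo`. -/
def spanTwoSec : List (List ℤ) := [[1, 0, 0, 0, 0, 0, 0, 0, 0, 0, 0, 0, 0, 0, 0, 0, 0, 0, 0, 0, 0, 0, 0, 0, 0, 0, 0, 0, 0, 0, 0, 0, 0, 0, 0, 0, 0, 0, 0, 0, 0, 0, 0, 0, 0, 0, 0, 0, 0, 0, 0, 0, 0, 0, 0, 0, 0, 0, 0, 0, 0, 0, 0],
    [0, 1, 0, 0, 0, 0, 0, 0, 0, 0, 0, 0, 0, 0, 0, 0, 0, 0, 0, 0, 0, 0, 0, 0, 0, 0, 0, 0, 0, 0, 0, 0, 0, 0, 0, 0, 0, 0, 0, 0, 0, 0, 0, 0, 0, 0, 0, 0, 0, 0, 0, 0, 0, 0, 0, 0, 0, 0, 0, 0, 0, 0, 0],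
    [0, 0, 0, 0, 0, (-1), 0, (-1), 0, (-2), 0, 0, 0, 0, 0, 0, 0, 0, 0, 0, 0, 0, 0, 0, 0, 0, 0, 0, 0, 0, 0, 0, 0, 0, 0, 0, 0, 0, 0, 0, 0, 0, 0, 0, 0, 0, 0, 0, 0, 0, 0, 0, 0, 0, 0, 0, 0, 0, 0, 0, 0, 0, 0],
    [0, 0, 0, 1, 0, 0, 0, 0, 0, 0, 0, 0, 0, 0, 0, 0, 0, 0, 0, 0, 0, 0, 0, 0, 0, 0, 0, 0, 0, 0, 0, 0, 0, 0, 0, 0, 0, 0, 0, 0, 0, 0, 0, 0, 0, 0, 0, 0, 0, 0, 0, 0, 0, 0, 0, 0, 0, 0, 0, 0, 0, 0, 0],
    [0, 0, 0, 0, 0, 0, 0, 0, 0, 0, 0, (-1), 0, 1, 0, 0, 0, 0, 0, 0, 0, 0, 0, 0, 0, 0, 0, 0, 0, 0, 0, 0, 0, 0, 0, 0, 0, 0, 0, 0, 0, 0, 0, 0, 0, 0, 0, 0, 0, 0, 0, 0, 0, 0, 0, 0, 0, 0, 0, 0, 0, 0, 0],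
    [0, 0, 0, 0, 0, 0, 0, 0, 0, (-1), 1, 0, 0, 0, 0, 0, 0, 0, 0, 0, 0, 0, 0, 0, 0, 0, 0, 0, 0, 0, 0, 0, 0, 0, 0, 0, 0, 0, 0, 0, 0, 0, 0, 0, 0, 0, 0, 0, 0, 0, 0, 0, 0, 0, 0, 0, 0, 0, 0, 0, 0, 0, 0],
    [0, 0, 0, 0, 0, 0, 0, 0, 0, 0, 0, 0, 0, 0, 0, 0, 0, 0, 0, 0, 0, 0, 0, 0, 0, 0, 0, 0, 0, 0, 0, (-1), 0, 0, 0, 1, 0, 0, 0, 0, 0, 0, 0, 0, 0, 0, 0, 0, 0, 0, 0, 0, 0, 0, 0, 0, 0, 0, 0, 0, 0, 0, 0],
    [0, 0, 0, 0, 0, 0, 0, 0, 0, 0, 0, 0, 0, 0, 0, 0, 0, 0, 0, 0, 0, 0, 0, 0, 0, 0, 0, 0, 0, 0, 0, 0, 0, 0, 0, (-1), 0, 0, 0, 0, 0, 0, 0, 0, 0, 0, 0, 0, 0, 0, 0, 0, 0, 0, 0, 0, 0, 0, 0, 0, 0, 0, 0],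
    [0, 0, 0, 0, 0, 0, 0, 0, 0, 0, 0, 0, 0, 0, 0, 0, 0, 0, 0, 0, 0, 0, 0, 0, 0, 0, 0, 0, 0, 0, 0, 0, 0, 0, 0, 0, (-1), 0, 0, 0, 0, 0, 0, 0, 0, 0, 0, 0, 0, 0, 0, 0, 0, 0, 0, 0, 0, 0, 0, 0, 0, 0, 0]]

/-- The field `alpha` of `spanTwo`. -/
def spanTwoAlpha : List ℤ := [0, 0, 0, 0, 1, 1, 1, 1, 0, 1, 1, 1, 0, 1, 0, 1, 1, 1, 0, 1, 0, 1, 0, 1, 1, 0, 1, 1, 1, 1, 0, 0, 0, 1, 0, 0, 0, 1, 0, 0, 1, 1, 1, 0, 0]

/-- The field `beta` of `spanTwo`. -/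
def spanTwoBeta : List (List ℤ) := [[1, 0, 0, 0, 0, 0, 0, 0, 0], [0, 1, 0, 0, 0, 0, 0, 0, 0], [0, 0, 1, 0, 0, 0, 0, 0, 0], [0, 0, 0, 1, 0, 0, 0, 0, 0], [0, 0, 0, 0, 2, 0, 0, 0, 0], [0, 0, (-1), 0, 0, 2, 0, 0, 0], [0, 0, 0, 0, 0, 0, 2, 0, 0], [0, 0, 0, 0, 0, 0, 0, 2, 0], [0, 0, 0, 0, 0, 0, 0, 0, 2], [0, 0, 0, 0, 0, (-1), 0, (-1), 0], [0, 0, 0, 0, 0, 0, 0, (-1), 0], [0, 0, 0, 0, (-1), 0, 0, (-1), 0], [0, 0, 0, 0, 0, 0, 0, 0, 0], [0, 0, 0, 0, 0, 0, 0, (-1), 0], [0, 0, 0, 0, 0, 0, 0, (-1), 0], [0, 0, 0, 0, 0, 0, 0, 0, 0], [0, 0, 0, 0, 0, 0, 0, 0, 0], [0, 0, 0, 0, 0, 0, 0, 0, 0], [0, 0, 0, 0, 0, 0, (-1), (-1), 0], [0, 0, 0, 0, 0, 0, 0, (-1), (-1)], [0, 0, 0, 0, 0, 0, 0, 0, 0], [0, 0, 0, 0, 0, 0, 0, 0, 0], [0, 0, 0, 0, 0, 0, 0, 0, 0], [0, 0, 0, 0, 0, 0, 0, 0, 0], [0, 0, 0, 0, 0, 0, (-1), (-1), (-1)], [0, 0, 0, 0, 0, 0, 0, (-1), 0], [0, 0, 0, 0, 0, 0, 0, 0, 0], [0, 0,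 0, 0, 0, 0, 0, 0, 0], [0, 0, 0, 0, 0, 0, 0, 0, 0], [0, 0, 0, 0, 0, 0, 0, 0, 0], [0, 0, 0, 0, 0, 0, 0, 0, (-1)], [0, 0, 0, 0, 0, 0, (-1), (-1), 0], [0, 0, 0, 0, 0, 0, 0, 0, (-1)], [0, 0, 0, 0, 0, 0, 0, 0, (-1)], [0, 0, 0, 0, 0, 0, 0, 0, 0], [0, 0, 0, 0, 0, 0, 0, (-1), 0], [0, 0, 0, 0, 0, 0, 0, 0, (-1)], [0, 0, 0, 0, 0, 0, 0, 0, 0], [0, 0, 0, 0, 0, 0, 0, 0, 0], [0, 0, 0, 0, 0, 0, 0, 0, 0], [0, 0, 0, 0, 0, 0, 0, 0, 0], [0, 0, 0, 0, 0, 0, 0, 0, 0], [0, 0, 0, 0, 0, 0, 0, 0, 0], [0, 0, 0, 0, 0, 0, 0, 0, 0], [0, 0, 0, 0, 0, 0, 0, 0, 0]]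

/-- Part of `spanTwoCombo`. -/
def spanTwoCombo0 : List (List (ℕ × ℤ)) := [[],
  [],
  [(0, 1), (1, 4), (2, (-2)), (4, (-1)), (8, 1), (9, (-3)), (10, (-1)), (11, (-1)), (12, 3), (13, 2), (14, 3), (15, (-2)), (16, (-3)), (17, (-1)), (23, (-1)), (24, (-2)), (25, (-1)), (27, (-1)), (29, 2), (31, (-1)), (32, (-1)), (34, (-1)), (35, 1), (36, (-2))],
  [],
  [(0, 4), (1, 27), (2, (-35)), (4, (-17)), (6, 1), (7, 6), (8, 3), (9, 3), (10, (-5)), (11, (-8)), (12, 34), (13, 4), (14, 24), (15, (-34)), (16, 6), (17, (-1)), (21, (-1)), (22, (-2)), (23, (-1)), (24, (-13)), (25, (-12)), (26, (-6)), (27, (-5)), (28, 6), (29, 16), (30, (-6)), (31, (-2)), (32, (-5)), (33, (-1)), (34, (-3)), (35, 5), (36, (-8)), (39, 1), (41, (-6))],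
  [(1, 2), (11, (-1))],
  [(0, 166674), (1, 806459), (2, (-944252)), (3, 2318), (4, (-473144)), (5, (-584)), (6, (-1164)), (7, 160548), (8, 83337), (9, (-27274)), (10, (-195316)), (11, (-267688)), (12, 976268), (13, 166674), (14, 723630), (15, (-944252)), (16, 53798), (17, (-28792)), (18, 2317), (19, 2), (20, (-148)), (21, (-29660)), (22, (-83474)), (23, (-24733)), (24, (-469904)), (25, (-325465)), (26, (-162146)), (27, (-194156)), (28, 163162), (29, 491849), (30, (-162144)), (31, (-53521)), (32, (-194156)), (33, (-27480)), (34, (-136299)), (35, 191555), (36, (-330461)), (37, 144), (38, (-146)), (39, 27772), (40, (-1018)), (41, (-164330))],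
  [(0, (-11452)), (1, (-55400)), (2, 64872), (3, (-160)), (4, 32506), (5, 40), (6, 80), (7, (-11030)), (8, (-5726)), (9, 1872), (10, 13420), (11, 18387), (12, (-67072)), (13, (-11452)), (14, (-49710)), (15, 64872), (16, (-3698)), (17, 1978), (18, (-160)), (20, 10), (21, 2038), (22, 5736), (23, 1698), (24, 32286), (25, 22360), (26, 11140), (27, 13340), (28, (-11210)), (29, (-33792)), (30, 11140), (31, 3676), (32, 13340), (33, 1888), (34, 9364), (35, (-13160)), (36, 22704), (37, (-10)), (38, 10), (39, (-1908)), (40, 70), (41, 11292)]]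

/-- Part of `spanTwoCombo`. -/
def spanTwoCombo1 : List (List (ℕ × ℤ)) := [[(0, (-49804)), (1, (-241107)), (2, 282336), (3, (-684)), (4, 141466), (5, 171), (6, 337), (7, (-48015)), (8, (-24902)), (9, 8108), (10, 58362), (11, 80030), (12, (-291871)), (13, (-49804)), (14, (-216354)), (15, 282336), (16, (-16134)), (17, 8602), (18, (-684)), (20, 44), (21, 8856), (22, 24943), (23, 7400), (24, 140426), (25, 97305), (26, 48484), (27, 58020), (28, (-48784)), (29, (-147021)), (30, 48486), (31, 16002), (32, 58020), (33, 8216), (34, 40728), (35, (-57248)), (36, 98748), (37, (-44)), (38, 44), (39, (-8304)), (40, 298), (41, 49124)],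
  [(0, 5726), (1, 27701), (2, (-32436)), (3, 80), (4, (-16253)), (5, (-20)), (6, (-40)), (7, 5515), (8, 2863), (9, (-936)), (10, (-6710)), (11, (-9194)), (12, 33536), (13, 5726), (14, 24855), (15, (-32436)), (16, 1849), (17, (-989)), (18, 80), (20, (-5)), (21, (-1019)), (22, (-2868)), (23, (-849)), (24, (-16143)), (25, (-11180)), (26, (-5570)), (27, (-6670)), (28, 5605), (29, 16896), (30, (-5570)), (31, (-1838)), (32, (-6670)), (33, (-944)), (34, (-4682)), (35, 6580), (36, (-11352)), (37, 5), (38, (-5)), (39, 954), (40, (-35)), (41, (-5646))],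
  [(0, 5726), (1, 27701), (2, (-32436)), (3, 80), (4, (-16253)), (5, (-20)), (6, (-40)), (7, 5515), (8, 2863), (9, (-936)), (10, (-6710)), (11, (-9194)), (12, 33536), (13, 5726), (14, 24855), (15, (-32436)), (16, 1849), (17, (-989)), (18, 80), (20, (-5)), (21, (-1019)), (22, (-2868)), (23, (-849)), (24, (-16143)), (25, (-11180)), (26, (-5570)), (27, (-6670)), (28, 5605), (29, 16896), (30, (-5570)), (31, (-1838)), (32, (-6670)), (33, (-944)), (34, (-4682)), (35, 6580), (36, (-11352)), (37, 5), (38, (-5)), (39, 954), (40, (-35)), (41, (-5646))],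
  [(0, 5727), (1, 27703), (2, (-32436)), (3, 80), (4, (-16253)), (5, (-20)), (6, (-40)), (7, 5515), (8, 2863), (9, (-938)), (10, (-6711)), (11, (-9195)), (12, 33537), (13, 5727), (14, 24856), (15, (-32436)), (16, 1847), (17, (-989)), (18, 80), (20, (-5)), (21, (-1019)), (22, (-2868)), (23, (-849)), (24, (-16145)), (25, (-11180)), (26, (-5570)), (27, (-6671)), (28, 5605), (29, 16897), (30, (-5570)), (31, (-1838)), (32, (-6671)), (33, (-944)), (34, (-4683)), (35, 6581), (36, (-11354)), (37, 5), (38, (-5)), (39, 954), (40, (-35)), (41, (-5646))],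
  [(0, (-6)), (1, (-30)), (2, 35), (4, 17), (7, (-6)), (8, (-3)), (9, 1), (10, 7), (11, 10), (12, (-36)), (13, (-6)), (14, (-27)), (15, 35), (16, (-2)), (17, 1), (21, 1), (22, 3), (23, 1), (24, 17), (25, 12), (26, 6), (27, 7), (28, (-6)), (29, (-18)), (30, 6), (31, 2), (32, 7), (33, 1), (34, 5), (35, (-7)), (36, 12), (39, (-1)), (41, 6)],
  [(0, 5727), (1, 27703), (2, (-32436)), (3, 80), (4, (-16253)), (5, (-20)), (6, (-40)), (7, 5515), (8, 2863), (9, (-938)), (10, (-6711)), (11, (-9195)), (12, 33537), (13, 5727), (14, 24856), (15, (-32436)), (16, 1847), (17, (-989)), (18, 80), (20, (-5)), (21, (-1019)), (22, (-2868)), (23, (-849)), (24, (-16145)), (25, (-11180)), (26, (-5570)), (27, (-6671)), (28, 5605), (29, 16897), (30, (-5570)), (31, (-1838)), (32, (-6671)), (33, (-944)), (34, (-4683)), (35, 6581), (36, (-11354)), (37, 5), (38, (-5)), (39, 954), (40, (-35)),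 (41, (-5646))],
  [(0, 6878), (1, 33275), (2, (-38964)), (3, 96), (4, (-19524)), (5, (-24)), (6, (-48)), (7, 6625), (8, 3439), (9, (-1124)), (10, (-8060)), (11, (-11044)), (12, 40285), (13, 6878), (14, 29857), (15, (-38964)), (16, 2222), (17, (-1188)), (18, 96), (20, (-6)), (21, (-1224)), (22, (-3445)), (23, (-1020)), (24, (-19391)), (25, (-13430)), (26, (-6691)), (27, (-8012)), (28, 6733), (29, 20296), (30, (-6691)), (31, (-2208)), (32, (-8012)), (33, (-1134)), (34, (-5624)), (35, 7904), (36, (-13636)), (37, 6), (38, (-6)), (39, 1146), (40, (-42)), (41, (-6782))],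
  [(1, 2), (11, (-1)), (14, 1)]]

/-- Part of `spanTwoCombo`. -/
def spanTwoCombo2 : List (List (ℕ × ℤ)) := [[(1, 1), (6, (-1)), (11, (-1)), (22, (-1)), (24, (-1)), (30, 1)],
  [(0, (-8)), (1, (-47)), (2, 68), (4, 34), (7, (-12)), (8, (-4)), (9, (-10)), (10, 9), (11, 14), (12, (-65)), (13, (-8)), (14, (-44)), (15, 68), (16, (-16)), (17, 2), (21, 2), (22, 6), (23, 1), (24, 24), (25, 23), (26, 12), (27, 9), (28, (-12)), (29, (-30)), (30, 12), (31, 3), (32, 9), (33, 2), (34, 5), (35, (-8)), (36, 13), (39, (-2)), (41, 12)],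
  [(0, (-75302)), (1, (-364353)), (2, 426600), (3, (-1047)), (4, 213760), (5, 264), (6, 526), (7, (-72533)), (8, (-37651)), (9, 12328), (10, 88242), (11, 120941), (12, (-441066)), (13, (-75302)), (14, (-326932)), (15, 426600), (16, (-24299)), (17, 13008), (18, (-1046)), (19, (-1)), (20, 67), (21, 13400), (22, 37712), (23, 11175), (24, 212298), (25, 147041), (26, 73255), (27, 87718), (28, (-73714)), (29, (-222212)), (30, 73254), (31, 24181), (32, 87718), (33, 12415), (34, 61580), (35, (-86544)), (36, 149301), (37, (-65)), (38, 66), (39, (-12547)), (40, 460), (41, 74241)],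
  [(0, 30628), (1, 148255), (2, (-173604)), (3, 422), (4, (-86986)), (5, (-106)), (6, (-208)), (7, 29523), (8, 15314), (9, (-4990)), (10, (-35891)), (11, (-49209)), (12, 179471), (13, 30628), (14, 133032), (15, (-173604)), (16, 9916), (17, (-5290)), (18, 422), (20, (-27)), (21, (-5447)), (22, (-15339)), (23, (-4549)), (24, (-86355)), (25, (-59832)), (26, (-29812)), (27, (-35680)), (28, 29997), (29, 90406), (30, (-29813)), (31, (-9839)), (32, (-35680)), (33, (-5052)), (34, (-25046)), (35, 35204), (36, (-60726)), (37, 27), (38, (-27)), (39, 5106), (40, (-184)), (41, (-30208))],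
  [(0, (-2306)), (1, (-11154)), (2, 13056), (3, (-32)), (4, 6542), (5, 8), (6, 16), (7, (-2220)), (8, (-1153)), (9, 381), (10, 2702), (11, 3703), (12, (-13500)), (13, (-2306)), (14, (-10008)), (15, 13056), (16, (-740)), (17, 398), (18, (-32)), (20, 2), (21, 410), (22, 1154), (23, 342), (24, 6500), (25, 4500), (26, 2242), (27, 2686), (28, (-2256)), (29, (-6802)), (30, 2242), (31, 740), (32, 2686), (33, 380), (34, 1886), (35, (-2651)), (36, 4573), (37, (-2)), (38, 2), (39, (-384)), (40, 14), (41, 2272)],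
  [(0, (-4630)), (1, (-22408)), (2, 26248), (3, (-64)), (4, 13152), (5, 16), (6, 32), (7, (-4464)), (8, (-2315)), (9, 748), (10, 5426), (11, 7437), (12, (-27134)), (13, (-4630)), (14, (-20108)), (15, 26248), (16, (-1506)), (17, 800), (18, (-64)), (20, 4), (21, 824), (22, 2320), (23, 686), (24, 13056), (25, 9046), (26, 4508), (27, 5394), (28, (-4536)), (29, (-13668)), (30, 4508), (31, 1486), (32, 5394), (33, 764), (34, 3785), (35, (-5321)), (36, 9179), (37, (-4)), (38, 4), (39, (-772)), (40, 28), (41, 4568)],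
  [(0, 2316), (1, 11207), (2, (-13124)), (3, 32), (4, (-6576)), (5, (-8)), (6, (-16)), (7, 2232), (8, 1158), (9, (-377)), (10, (-2714)), (11, (-3720)), (12, 13568), (13, 2316), (14, 10056), (15, (-13124)), (16, 750), (17, (-400)), (18, 32), (20, (-2)), (21, (-412)), (22, (-1160)), (23, (-343)), (24, (-6530)), (25, (-4523)), (26, (-2254)), (27, (-2698)), (28, 2268), (29, 6835), (30, (-2254)), (31, (-743)), (32, (-2698)), (33, (-382)), (34, (-1894)), (35, 2662), (36, (-4592)), (37, 2), (38, (-2)), (39, 386), (40, (-14)), (41, (-2284))],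
  [(0, (-2316)), (1, (-11206)), (2, 13124), (3, (-32)), (4, 6576), (5, 9), (6, 15), (7, (-2233)), (8, (-1158)), (9, 377), (10, 2714), (11, 3719), (12, (-13567)), (13, (-2316)), (14, (-10056)), (15, 13124), (16, (-750)), (17, 400), (18, (-32)), (20, 3), (21, 412), (22, 1159), (23, 343), (24, 6529), (25, 4522), (26, 2254), (27, 2698), (28, (-2268)), (29, (-6834)), (30, 2254), (31, 743), (32, 2698), (33, 382), (34, 1894), (35, (-2662)), (36, 4592), (37, (-2)), (38, 2), (39, (-386)), (40, 14), (41, 2284)]]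

/-- Part of `spanTwoCombo`. -/
def spanTwoCombo3 : List (List (ℕ × ℤ)) := [[(0, 30748), (1, 148829), (2, (-174284)), (3, 426), (4, (-87328)), (5, (-106)), (6, (-210)), (7, 29636), (8, 15374), (9, (-5001)), (10, (-36033)), (11, (-49399)), (12, 180174), (13, 30748), (14, 133547), (15, (-174284)), (16, 9964), (17, (-5312)), (18, 426), (19, (-1)), (20, (-27)), (21, (-5472)), (22, (-15401)), (23, (-4565)), (24, (-86695)), (25, (-60069)), (26, (-29929)), (27, (-35820)), (28, 30117), (29, 90763), (30, (-29931)), (31, (-9878)), (32, (-35820)), (33, (-5073)), (34, (-25141)), (35, 35339), (36, (-60960)), (37, 27), (38, (-27)), (39, 5126), (40, (-186)), (41, (-30327))],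
  [(0, 2), (1, 2), (8, 1), (9, (-4)), (10, (-2)), (12, 2), (13, 2), (14, 1), (16, (-4)), (24, (-4)), (27, (-2)), (29, 2), (32, (-2)), (34, (-2)), (35, 2), (36, (-4)), (41, (-1))],
  [(0, (-2)), (1, (-5)), (2, 2), (4, 1), (8, (-1)), (9, 5), (10, 2), (11, 2), (12, (-4)), (13, (-2)), (14, (-5)), (15, 2), (16, 5), (17, 1), (23, 1), (24, 4), (25, 1), (27, 2), (29, (-3)), (31, 1), (32, 2), (34, 2), (35, (-2)), (36, 4)],
  [(0, (-22918)), (1, (-110904)), (2, 129880), (3, (-320)), (4, 65080), (5, 80), (6, 160), (7, (-22084)), (8, (-11459)), (9, 3726), (10, 26858), (11, 36810), (12, (-134274)), (13, (-22918)), (14, (-99516)), (15, 129880), (16, (-7426)), (17, 3960), (18, (-320)), (20, 20), (21, 4081), (22, 11482), (23, 3399), (24, 64618), (25, 44766), (26, 22304), (27, 26698), (28, (-22444)), (29, (-67644)), (30, 22304), (31, 7360), (32, 26698), (33, 3781), (34, 18737),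 (35, (-26337)), (36, 45434), (37, (-20)), (38, 20), (39, (-3820)), (40, 140), (41, 22604)],
  [(1, 1), (11, (-1))],
  [(0, 2304), (1, 11150), (2, (-13056)), (3, 32), (4, (-6542)), (5, (-8)), (6, (-16)), (7, 2220), (8, 1152), (9, (-375)), (10, (-2700)), (11, (-3701)), (12, 13498), (13, 2304), (14, 10004), (15, (-13056)), (16, 746), (17, (-398)), (18, 32), (20, (-2)), (21, (-410)), (22, (-1154)), (23, (-342)), (24, (-6497)), (25, (-4500)), (26, (-2242)), (27, (-2684)), (28, 2256), (29, 6800), (30, (-2242)), (31, (-739)), (32, (-2684)), (33, (-380)), (34, (-1884)), (35, 2648), (36, (-4568)), (37, 2), (38, (-2)), (39, 384), (40, (-14)), (41, (-2272))],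
  [(0, 11218), (1, 54326), (2, (-63614)), (3, 152), (4, (-31873)), (5, (-38)), (6, (-74)), (7, 10820), (8, 5609), (9, (-1826)), (10, (-13145)), (11, (-18033)), (12, 65758), (13, 11218), (14, 48750), (15, (-63614)), (16, 3636), (17, (-1937)), (18, 152), (20, (-10)), (21, (-1993)), (22, (-5617)), (23, (-1669)), (24, (-31630)), (25, (-21922)), (26, (-10924)), (27, (-13069)), (28, 10991), (29, 33120), (30, (-10925)), (31, (-3606)), (32, (-13069)), (33, (-1851)), (34, (-9175)), (35, 12897), (36, (-22244)), (37, 10), (38, (-10)), (39, 1871), (40, (-66)), (41, (-11066))],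
  []]

/-- Part of `spanTwoCombo`. -/
def spanTwoCombo4 : List (List (ℕ × ℤ)) := [[(0, 20358), (1, 98550), (2, (-115396)), (3, 279), (4, (-57820)), (5, (-70)), (6, (-138)), (7, 19624), (8, 10179), (9, (-3320)), (10, (-23856)), (11, (-32712)), (12, 119296), (13, 20358), (14, 88432), (15, (-115396)), (16, 6588), (17, (-3516)), (18, 279), (20, (-18)), (21, (-3620)), (22, (-10195)), (23, (-3025)), (24, (-57399)), (25, (-39771)), (26, (-19816)), (27, (-23716)), (28, 19939), (29, 60093), (30, (-19817)), (31, (-6541)), (32, (-23716)), (33, (-3358)), (34, (-16649)), (35, 23401), (36, (-40365)), (37, 18), (38, (-18)), (39, 3394), (40, (-122)), (41, (-20078))],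
  [(0, 22672), (1, 109753), (2, (-128520)), (3, 312), (4, (-64396)), (5, (-78)), (6, (-154)), (7, 21856), (8, 11336), (9, (-3691)), (10, (-26568)), (11, (-36430)), (12, 132861), (13, 22672), (14, 98484), (15, (-128520)), (16, 7344), (17, (-3916)), (18, 312), (20, (-20)), (21, (-4032)), (22, (-11355)), (23, (-3368)), (24, (-63925)), (25, (-44294)), (26, (-22070)), (27, (-26412)), (28, 22207), (29, 66926), (30, (-22071)), (31, (-7284)), (32, (-26412)), (33, (-3740)), (34, (-18540)), (35, 26060), (36, (-44952)), (37, 20), (38, (-20)), (39, 3780), (40, (-136)), (41, (-22362))],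
  [(0, 27368), (1, 132455), (2, (-155108)), (3, 380), (4, (-77720)), (5, (-95)), (6, (-189)), (7, 26375), (8, 13684), (9, (-4456)), (10, (-32072)), (11, (-43964)), (12, 160355), (13, 27368), (14, 118854), (15, (-155108)), (16, 8862), (17, (-4728)), (18, 380), (20, (-24)), (21, (-4870)), (22, (-13709)), (23, (-4062)), (24, (-77166)), (25, (-53460)), (26, (-26636)), (27, (-31882)), (28, 26802), (29, 80781), (30, (-26636)), (31, (-8790)), (32, (-31882)), (33, (-4514)), (34, (-22378)), (35, 31454), (36, (-54260)), (37, 24), (38, (-24)), (39, 4562), (40, (-166)), (41, (-26992))],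
  [],
  [],
  [(0, 11448), (1, 55398), (2, (-64872)), (3, 160), (4, (-32506)), (5, (-40)), (6, (-81)), (7, 11030), (8, 5724), (9, (-1864)), (10, (-13416)), (11, (-18388)), (12, 67068), (13, 11448), (14, 49708), (15, (-64872)), (16, 3706), (17, (-1978)), (18, 160), (20, (-10)), (21, (-2038)), (22, (-5736)), (23, (-1698)), (24, (-32278)), (25, (-22360)), (26, (-11140)), (27, (-13336)), (28, 11210), (29, 33788), (30, (-11140)), (31, (-3676)), (32, (-13336)), (33, (-1888)), (34, (-9360)), (35, 13156), (36, (-22696)), (37, 10), (38, (-10)), (39, 1908), (40, (-70)), (41, (-11290))],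
  [(0, 27368), (1, 132455), (2, (-155108)), (3, 380), (4, (-77720)), (5, (-95)), (6, (-189)), (7, 26374), (8, 13684), (9, (-4456)), (10, (-32072)), (11, (-43964)), (12, 160355), (13, 27368), (14, 118854), (15, (-155108)), (16, 8862), (17, (-4728)), (18, 380), (20, (-24)), (21, (-4870)), (22, (-13709)), (23, (-4062)), (24, (-77166)), (25, (-53461)), (26, (-26636)), (27, (-31882)), (28, 26802), (29, 80781), (30, (-26636)), (31, (-8790)), (32, (-31882)), (33, (-4514)), (34, (-22378)), (35, 31454), (36, (-54260)), (37, 24), (38, (-24)), (39, 4562), (40, (-166)), (41, (-26992))],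
  [(0, 2316), (1, 11205), (2, (-13124)), (3, 32), (4, (-6576)), (5, (-8)), (6, (-16)), (7, 2232), (8, 1158), (9, (-375)), (10, (-2714)), (11, (-3719)), (12, 13568), (13, 2316), (14, 10054), (15, (-13124)), (16, 752), (17, (-400)), (18, 32), (20, (-2)), (21, (-412)), (22, (-1160)), (23, (-343)), (24, (-6530)), (25, (-4523)), (26, (-2254)), (27, (-2698)), (28, 2268), (29, 6835), (30, (-2254)), (31, (-743)), (32, (-2698)), (33, (-382)), (34, (-1893)), (35, 2661), (36, (-4590)), (37, 2), (38, (-2)), (39, 386), (40, (-14)), (41, (-2284))]]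

/-- Part of `spanTwoCombo`. -/
def spanTwoCombo5 : List (List (ℕ × ℤ)) := [[(0, (-2)), (1, (-2)), (8, (-1)), (9, 4), (10, 2), (11, 1), (12, (-2)), (13, (-2)), (14, (-2)), (16, 4), (24, 4), (27, 2), (29, (-2)), (32, 2), (34, 2), (35, (-2)), (36, 4)],
  [(0, (-6764)), (1, (-32751)), (2, 38352), (3, (-92)), (4, 19216), (5, 23), (6, 45), (7, (-6523)), (8, (-3382)), (9, 1101), (10, 7926), (11, 10871), (12, (-39646)), (13, (-6764)), (14, (-29390)), (15, 38352), (16, (-2192)), (17, 1168), (18, (-92)), (20, 6), (21, 1201), (22, 3387), (23, 1006), (24, 19073), (25, 13217), (26, 6586), (27, 7880), (28, (-6626)), (29, (-19969)), (30, 6586), (31, 2173), (32, 7880), (33, 1116), (34, 5532), (35, (-7776)), (36, 13412), (37, (-6)), (38, 6), (39, (-1128)), (40, 40), (41, 6672)],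
  [(0, (-2304)), (1, (-11148)), (2, 13056), (3, (-32)), (4, 6542), (5, 8), (6, 16), (7, (-2220)), (8, (-1152)), (9, 375), (10, 2700), (11, 3700), (12, (-13498)), (13, (-2304)), (14, (-10004)), (15, 13056), (16, (-746)), (17, 398), (18, (-32)), (20, 2), (21, 410), (22, 1154), (23, 342), (24, 6496), (25, 4500), (26, 2242), (27, 2684), (28, (-2256)), (29, (-6800)), (30, 2242), (31, 740), (32, 2684), (33, 380), (34, 1884), (35, (-2648)), (36, 4568), (37, (-2)), (38, 2), (39, (-384)), (40, 14), (41, 2272)],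
  [(0, 9088), (1, 44007), (2, (-51544)), (3, 126), (4, (-25826)), (5, (-31)), (6, (-61)), (7, 8767), (8, 4544), (9, (-1468)), (10, (-10651)), (11, (-14606)), (12, 53279), (13, 9088), (14, 39490), (15, (-51544)), (16, 2958), (17, (-1570)), (18, 126), (20, (-8)), (21, (-1616)), (22, (-4553)), (23, (-1350)), (24, (-25628)), (25, (-17763)), (26, (-8852)), (27, (-10588)), (28, 8906), (29, 26835), (30, (-8852)), (31, (-2920)), (32, (-10588)), (33, (-1500)), (34, (-7430)), (35, 10446), (36, (-18018)), (37, 8), (38, (-8)), (39, 1516), (40, (-54)), (41, (-8968))],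
  [(0, 4460), (1, 21603), (2, (-25296)), (3, 60), (4, (-12674)), (5, (-15)), (6, (-29)), (7, 4303), (8, 2230), (9, (-726)), (10, (-5226)), (11, (-7171)), (12, 26148), (13, 4460), (14, 19386), (15, (-25296)), (16, 1446), (17, (-770)), (18, 60), (20, (-4)), (21, (-792)), (22, (-2233)), (23, (-664)), (24, (-12576)), (25, (-8717)), (26, (-4344)), (27, (-5196)), (28, 4370), (29, 13169), (30, (-4344)), (31, (-1434)), (32, (-5196)), (33, (-736)), (34, (-3648)), (35, 5128), (36, (-8844)), (37, 4), (38, (-4)), (39, 744), (40, (-26)), (41, (-4400))]]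

/-- The field `combo` of `spanTwo`. -/
def spanTwoCombo : List (List (ℕ × ℤ)) :=
  spanTwoCombo0 ++ spanTwoCombo1 ++ spanTwoCombo2 ++ spanTwoCombo3 ++ spanTwoCombo4 ++ spanTwoCombo5

/-- The field `Q` of `spanTwo`. -/
def spanTwoQ : List (List ℤ) := [[1, 0, 0, 0, 0, 0, 0, 0, 0], [0, 1, 0, 0, 0, 0, 0, 0, 0], [0, 0, 1, 0, 0, 0, 0, 0, 0], [0, 0, 0, 1, 0, 0, 0, 0, 0], [0, 0, 0, 0, 2, 0, 0, 0, 0], [0, 0, (-1), 0, 0, 2, 0, 0, 0], [0, 0, 0, 0, 0, 0, 2, 0, 0], [0, 0, 0, 0, 0, 0, 0, 2, 0], [0, 0, 0, 0, 0, 0, 0, 0, 2]]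

/-- The spanning certificate. -/
def spanTwo : CfsgLib.MTwelveCover.Span where
  tgt := spanTwoTgt
  sec := spanTwoSec
  alpha := spanTwoAlpha
  beta := spanTwoBeta
  combo := spanTwoCombo
  sq := [(1, (-2)), (11, 1)]
  D := 2
  Q := spanTwoQ

/-- The generators of the Sylow subgroup. -/
def sylTwo : List ℕ := [101, 102, 103, 104, 105, 106, 107, 108, 109]

/-- The conjugating elements. -/
def conjTwo : List ℕ := [110, 111, 112]

/-- A chain of orbits of the Sylow subgroup. -/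
def levelsTwo : List (CfsgLib.OmegaSeven.Row × List (List ℕ)) := [
  ((8, 0), [[], [8], [7], [7, 8], [6], [6, 8], [6, 7], [6, 7, 8], [5], [5, 8], [5, 7], [5, 7, 8], [5, 6], [5, 6, 8], [5, 6, 7], [5, 6, 7, 8], [4], [4, 8], [4, 7], [4, 7, 8], [4, 6], [4, 6, 8], [4, 6, 7], [4, 6, 7, 8], [4, 5], [4, 5, 8], [4, 5, 7], [4, 5, 7, 8], [4, 5, 6], [4, 5, 6, 8], [4, 5, 6, 7], [4, 5, 6, 7, 8], [3], [3, 8], [3, 7], [3, 7, 8], [3, 6], [3, 6, 8], [3, 6, 7], [3, 6, 7, 8], [3, 5], [3, 5, 8], [3, 5, 7], [3, 5, 7, 8], [3, 5, 6], [3, 5, 6, 8], [3, 5, 6, 7], [3, 5, 6, 7, 8], [3, 4], [3, 4, 8], [3, 4, 7], [3, 4, 7, 8], [3, 4, 6], [3, 4, 6, 8], [3, 4, 6, 7], [3, 4, 6, 7, 8], [3, 4, 5], [3, 4, 5, 8], [3, 4, 5, 7], [3, 4, 5, 7, 8], [3, 4, 5, 6], [3, 4, 5, 6, 8], [3, 4, 5, 6, 7], [3, 4, 5, 6, 7, 8], [2], [2, 8], [2, 7], [2, 7, 8], [2, 6], [2, 6, 8], [2, 6, 7], [2, 6, 7, 8], [2, 5], [2,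 5, 8], [2, 5, 7], [2, 5, 7, 8], [2, 5, 6], [2, 5, 6, 8], [2, 5, 6, 7], [2, 5, 6, 7, 8], [2, 4], [2, 4, 8], [2, 4, 7], [2, 4, 7, 8], [2, 4, 6], [2, 4, 6, 8], [2, 4, 6, 7], [2, 4, 6, 7, 8], [2, 4, 5], [2, 4, 5, 8], [2, 4, 5, 7], [2, 4, 5, 7, 8], [2, 4, 5, 6], [2, 4, 5, 6, 8], [2, 4, 5, 6, 7], [2, 4, 5, 6, 7, 8], [2, 3], [2, 3, 8], [2, 3, 7], [2, 3, 7, 8], [2, 3, 6], [2, 3, 6, 8], [2, 3, 6, 7], [2, 3, 6, 7, 8], [2, 3, 5], [2, 3, 5, 8], [2, 3, 5, 7], [2, 3, 5, 7, 8], [2, 3, 5, 6], [2, 3, 5, 6, 8], [2, 3, 5, 6, 7], [2, 3, 5, 6, 7, 8], [2, 3, 4], [2, 3, 4, 8], [2, 3, 4, 7], [2, 3, 4, 7, 8], [2, 3, 4, 6], [2, 3, 4, 6, 8], [2, 3, 4, 6, 7], [2, 3, 4, 6, 7, 8], [2, 3, 4, 5], [2, 3, 4, 5, 8], [2, 3, 4, 5, 7], [2, 3, 4, 5, 7, 8], [2, 3, 4, 5, 6], [2, 3, 4, 5, 6, 8], [2, 3, 4, 5, 6, 7], [2, 3, 4, 5, 6, 7, 8], [1], [1, 8], [1, 7], [1, 7, 8], [1, 6], [1, 6, 8], [1, 6, 7], [1,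 6, 7, 8], [1, 5], [1, 5, 8], [1, 5, 7], [1, 5, 7, 8], [1, 5, 6], [1, 5, 6, 8], [1, 5, 6, 7], [1, 5, 6, 7, 8], [1, 4], [1, 4, 8], [1, 4, 7], [1, 4, 7, 8], [1, 4, 6], [1, 4, 6, 8], [1, 4, 6, 7], [1, 4, 6, 7, 8], [1, 4, 5], [1, 4, 5, 8], [1, 4, 5, 7], [1, 4, 5, 7, 8], [1, 4, 5, 6], [1, 4, 5, 6, 8], [1, 4, 5, 6, 7], [1, 4, 5, 6, 7, 8], [1, 3], [1, 3, 8], [1, 3, 7], [1, 3, 7, 8], [1, 3, 6], [1, 3, 6, 8], [1, 3, 6, 7], [1, 3, 6, 7, 8], [1, 3, 5], [1, 3, 5, 8], [1, 3, 5, 7], [1, 3, 5, 7, 8], [1, 3, 5, 6], [1, 3, 5, 6, 8], [1, 3, 5, 6, 7], [1, 3, 5, 6, 7, 8], [1, 3, 4], [1, 3, 4, 8], [1, 3, 4, 7], [1, 3, 4, 7, 8], [1, 3, 4, 6], [1, 3, 4, 6, 8], [1, 3, 4, 6, 7], [1, 3, 4, 6, 7, 8], [1, 3, 4, 5], [1, 3, 4, 5, 8], [1, 3, 4, 5, 7], [1, 3, 4, 5, 7, 8], [1, 3, 4, 5, 6], [1, 3, 4, 5, 6, 8], [1, 3, 4, 5, 6, 7], [1, 3, 4, 5, 6, 7, 8], [1, 2], [1, 2, 8], [1, 2, 7], [1, 2, 7, 8],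 [1, 2, 6], [1, 2, 6, 8], [1, 2, 6, 7], [1, 2, 6, 7, 8], [1, 2, 5], [1, 2, 5, 8], [1, 2, 5, 7], [1, 2, 5, 7, 8], [1, 2, 5, 6], [1, 2, 5, 6, 8], [1, 2, 5, 6, 7], [1, 2, 5, 6, 7, 8], [1, 2, 4], [1, 2, 4, 8], [1, 2, 4, 7], [1, 2, 4, 7, 8], [1, 2, 4, 6], [1, 2, 4, 6, 8], [1, 2, 4, 6, 7], [1, 2, 4, 6, 7, 8], [1, 2, 4, 5], [1, 2, 4, 5, 8], [1, 2, 4, 5, 7], [1, 2, 4, 5, 7, 8], [1, 2, 4, 5, 6], [1, 2, 4, 5, 6, 8], [1, 2, 4, 5, 6, 7], [1, 2, 4, 5, 6, 7, 8], [1, 2, 3], [1, 2, 3, 8], [1, 2, 3, 7], [1, 2, 3, 7, 8], [1, 2, 3, 6], [1, 2, 3, 6, 8], [1, 2, 3, 6, 7], [1, 2, 3, 6, 7, 8], [1, 2, 3, 5], [1, 2, 3, 5, 8], [1, 2, 3, 5, 7], [1, 2, 3, 5, 7, 8], [1, 2, 3, 5, 6], [1, 2, 3, 5, 6, 8], [1, 2, 3, 5, 6, 7], [1, 2, 3, 5, 6, 7, 8], [1, 2, 3, 4], [1, 2, 3, 4, 8], [1, 2, 3, 4, 7], [1, 2, 3, 4, 7, 8], [1, 2, 3, 4, 6], [1, 2, 3, 4, 6, 8], [1, 2, 3, 4, 6, 7], [1, 2, 3, 4, 6, 7, 8],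 [1, 2, 3, 4, 5], [1, 2, 3, 4, 5, 8], [1, 2, 3, 4, 5, 7], [1, 2, 3, 4, 5, 7, 8], [1, 2, 3, 4, 5, 6], [1, 2, 3, 4, 5, 6, 8], [1, 2, 3, 4, 5, 6, 7], [1, 2, 3, 4, 5, 6, 7, 8]]),
  ((1, 0), [[], [0]])]

end CfsgLib.OmegaSevenMult
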