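import Cfsg.Agent.OmegaSevenMult.Tables
import Cfsg.Agent.OmegaSevenMult.TwoData

/-! The kernel checks for the prime 2. -/

set_option autoImplicit false
set_option Elab.async false
set_option maxRecDepth 100000

namespace CfsgLib.OmegaSevenMult

theorem sylowTwo_ok : sylowOK certTwo.rules certTwo.fus certTwo.fusW sylTwo conjTwo levelsTwo
    certTwo.n (2 ^ 9) = true := by decide +kernel

theorem spanTwo_ok : MTwelveCover.spanOK certTwo spanTwo 2 = true := by decide +kernel

end CfsgLib.OmegaSevenMult
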