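import Cfsg.Agent.OmegaSevenMult.Cover
import Cfsg.Agent.OmegaSevenMult.SylowTwoChecks
import Cfsg.Agent.OmegaSevenMult.SylowThreeChecks
import Cfsg.Agent.OmegaSevenMult.CyclicChecks
import Cfsg.Agent.MTwelveCover.Bound
import Cfsg.Agent.MultOrth.Spin
import Cfsg.Agent.OPlusEightTwo.Field
import Cfsg.Agent.CoverTab.Transfer
import Mathlib.GroupTheory.SpecificGroups.Cyclic

/-!
# The multiplier of the seven dimensional orthogonal group over three elements

The double cover and the triple cover give a stem extension with kernel cyclic of order six; the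
certificates for the primes 2 and 3 and elements of orders 5, 7, 13 bound every other one.
-/

set_option autoImplicit false
set_option linter.style.haveILetI false

namespace CfsgLib.OmegaSevenMult

open Matrix CfsgLib.OmegaSeven CfsgLib.MultOrth CfsgLib.StdForms
open CfsgLib.Schur.Pc (ev tailSubgroup)

/-- The double cover. -/
abbrev Sp7 := ↥(Spin Q7)

/-- Its projection. -/
noncomputable abbrev proj2 : Sp7 →* G7 := MultOrth.proj Q7 two_ne_zero3 nondeg7

theorem perfect : commutator G7 = ⊤ :=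
  CfsgLib.Forms4.TwoPairs.commutator_omega nondeg7 (by simp)
    (CfsgLib.Forms4.oddPairs 3 (by norm_num))

theorem perfect_spin : commutator Sp7 = ⊤ := by
  refine commutator_spin Q7 two_ne_zero3 nondeg7 perfect
    (a := Pi.single (.inr (.inl 0)) 1 + Pi.single (.inr (.inr 0)) 1)
    (b := Pi.single (.inr (.inl 1)) 1 + Pi.single (.inr (.inr 1)) 1)
    (c := Pi.single (.inr (.inl 2)) 1 + Pi.single (.inr (.inr 2)) 1)
    ?_ ?_ ?_ ?_ ?_ ?_ <;>
    simp [Q7, oddQ_apply, Cfsg.quadFormOdd, polar_odd, Pi.single_apply]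

/-- The product of the two covers. -/
noncomputable def six : Subgroup (Sp7 × ↥triple) :=
  (proj2.comp (MonoidHom.fst _ _)).eqLocus (proj3.comp (MonoidHom.snd _ _))

/-- Its projection. -/
noncomputable def proj6 : ↥six →* G7 := (proj2.comp (MonoidHom.fst _ _)).comp six.subtype

/-- The first factor. -/
noncomputable def toSpin : ↥six →* Sp7 := (MonoidHom.fst _ _).comp six.subtype

/-- The second factor. -/
noncomputable def toTriple : ↥six →* ↥triple := (MonoidHom.snd _ _).comp six.subtype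

theorem mem_six (a : Sp7) (b : ↥triple) (h : proj2 a = proj3 b) : (a, b) ∈ six := h

theorem toSpin_surjective : Function.Surjective toSpin := fun a => by
  obtain ⟨b, hb⟩ := proj3_surjective (proj2 a)
  exact ⟨⟨(a, b), mem_six a b hb.symm⟩, rfl⟩

theorem toTriple_surjective : Function.Surjective toTriple := fun b => by
  obtain ⟨a, ha⟩ := proj_surjective Q7 two_ne_zero3 nondeg7 (proj3 b)
  exact ⟨⟨(a, b), mem_six a b ha⟩, rfl⟩

theorem proj6_surjective : Function.Surjective proj6 := fun g => by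
  obtain ⟨a, ha⟩ := proj_surjective Q7 two_ne_zero3 nondeg7 g
  obtain ⟨b, hb⟩ := proj3_surjective g
  exact ⟨⟨(a, b), mem_six a b (ha.trans hb.symm)⟩, ha⟩

theorem finite_six : Finite ↥six := by
  haveI : Finite Sp7 := finite_spin Q7 two_ne_zero3 nondeg7
  haveI : Finite G7 := Finite.of_injective _ toM_injective
  infer_instance

/-- The generator of the kernel. -/
noncomputable def ker6 : ↥six :=
  ⟨(negOne Q7, shift1), mem_six _ _
    ((MonoidHom.mem_ker.1 (negOne_mem_ker Q7 two_ne_zero3 nondeg7)).trans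
      (MonoidHom.mem_ker.1 (ker_proj3.ge (Subgroup.mem_zpowers shift1))).symm)⟩

theorem orderOf_ker6 : orderOf ker6 = 6 := by
  rw [← Subgroup.orderOf_coe ker6, Prod.orderOf,
    show (ker6 : Sp7 × ↥triple) = (negOne Q7, shift1) from rfl,
    orderOf_negOne Q7 two_ne_zero3 nondeg7, orderOf_shift1]
  rfl

theorem ker6_mem : ker6 ∈ proj6.ker :=
  MonoidHom.mem_ker.1 (negOne_mem_ker Q7 two_ne_zero3 nondeg7)

theorem shift1_cube : shift1 ^ 3 = 1 :=
  orderOf_dvd_iff_pow_eq_one.1 orderOf_shift1.dvd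

theorem negOne_sq : negOne Q7 ^ 2 = 1 := (sq _).trans (negOne_mul_self Q7)

theorem ker_proj6 : proj6.ker = Subgroup.zpowers ker6 := by
  refine le_antisymm (fun y hy => ?_) (Subgroup.zpowers_le.2 ker6_mem)
  have h2 : y.1.1 ∈ (proj2).ker := hy
  have h3 : y.1.2 ∈ proj3.ker :=
    MonoidHom.mem_ker.2 ((y.2 : proj2 y.1.1 = proj3 y.1.2).symm.trans hy)
  obtain ⟨n, hn⟩ := mem_ker_proj3 h3
  rcases mem_ker_proj Q7 two_ne_zero3 nondeg7 _ h2 with e | e
  · refine Subgroup.mem_zpowers_iff.2 ⟨((4 * n : ℕ) : ℤ), Subtype.ext (Prod.ext ?_ ?_)⟩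
    · rw [zpow_natCast, Subgroup.coe_pow, Prod.pow_fst, pow_mul, e]
      show ((negOne Q7) ^ 4) ^ n = 1
      rw [show 4 = 2 * 2 from rfl, pow_mul, negOne_sq, one_pow, one_pow]
    · rw [zpow_natCast, Subgroup.coe_pow, Prod.pow_snd, pow_mul, ← hn]
      show (shift1 ^ 4) ^ n = shift1 ^ n
      rw [pow_succ, shift1_cube, one_mul]
  · refine Subgroup.mem_zpowers_iff.2 ⟨((4 * n + 3 : ℕ) : ℤ), Subtype.ext (Prod.ext ?_ ?_)⟩
    · rw [zpow_natCast, Subgroup.coe_pow, Prod.pow_fst, e]
      show negOne Q7 ^ (4 * n + 3) = negOne Q7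
      rw [show 4 * n + 3 = 2 * (2 * n + 1) + 1 by ring, pow_succ, pow_mul, negOne_sq, one_pow, one_mul]
    · rw [zpow_natCast, Subgroup.coe_pow, Prod.pow_snd, ← hn]
      show shift1 ^ (4 * n + 3) = shift1 ^ n
      rw [show 4 * n + 3 = 3 * (n + 1) + n by ring, pow_add, pow_mul, shift1_cube, one_pow, one_mul]

theorem map_commutator_six {K : Type} [Group K] (f : ↥six →* K) (hf : Function.Surjective f) :
    (commutator ↥six).map f = commutator K := by
  rw [commutator_def, Subgroup.map_commutator, Subgroup.map_top_of_surjective _ hf, ← commutator_def]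

theorem ker6_mem_commutator : ker6 ∈ commutator ↥six := by
  obtain ⟨d, hd, hd1⟩ : negOne Q7 ∈ (commutator ↥six).map toSpin := by
    rw [map_commutator_six _ toSpin_surjective, perfect_spin]; trivial
  obtain ⟨e, he, he2⟩ : shift1 ∈ (commutator ↥six).map toTriple := by
    rw [map_commutator_six _ toTriple_surjective]; exact shift1_mem_commutator
  have hd1' : d.1.1 = negOne Q7 := hd1
  have he2' : e.1.2 = shift1 := he2
  have hd2 : d.1.2 ∈ proj3.ker := by
    refine MonoidHom.mem_ker.2 ((d.2 : proj2 d.1.1 = proj3 d.1.2).symm.trans ?_)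
    show proj2 d.1.1 = 1
    rw [hd1']
    exact MonoidHom.mem_ker.1 (negOne_mem_ker Q7 two_ne_zero3 nondeg7)
  have he1 : e.1.1 ∈ (proj2).ker := by
    refine MonoidHom.mem_ker.2 ((e.2 : proj2 e.1.1 = proj3 e.1.2).trans ?_)
    show proj3 e.1.2 = 1
    rw [he2']
    exact MonoidHom.mem_ker.1 (ker_proj3.ge (Subgroup.mem_zpowers shift1))
  have key : ker6 = d ^ 3 * e ^ 4 := by
    refine Subtype.ext (Prod.ext ?_ ?_)
    · rw [Subgroup.coe_mul, Prod.fst_mul, Subgroup.coe_pow, Subgroup.coe_pow, Prod.pow_fst,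
        Prod.pow_fst, hd1']
      show negOne Q7 = negOne Q7 ^ 3 * e.1.1 ^ 4
      rcases mem_ker_proj Q7 two_ne_zero3 nondeg7 _ he1 with h | h <;>
        simp [h, pow_succ, negOne_mul_self]
    · rw [Subgroup.coe_mul, Prod.snd_mul, Subgroup.coe_pow, Subgroup.coe_pow, Prod.pow_snd,
        Prod.pow_snd, he2']
      obtain ⟨n, hn⟩ := mem_ker_proj3 hd2
      show shift1 = d.1.2 ^ 3 * shift1 ^ 4
      rw [← hn, ← pow_mul, mul_comm n, pow_mul, pow_succ shift1 3, shift1_cube, one_pow, one_mul, one_mul]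
  rw [key]
  exact Subgroup.mul_mem _ (Subgroup.pow_mem _ hd 3) (Subgroup.pow_mem _ he 4)

theorem ker6_central : ker6 ∈ Subgroup.center ↥six := by
  rw [Subgroup.mem_center_iff]
  intro y
  exact Subtype.ext (Prod.ext (Subgroup.mem_center_iff.1 (negOne_mem_center Q7) y.1.1)
    (Subgroup.mem_center_iff.1 shift1_central y.1.2))

theorem isStemExtension_proj6 : Cfsg.IsStemExtension proj6 := by
  refine ⟨proj6_surjective, ?_, ?_⟩ <;> rw [ker_proj6, Subgroup.zpowers_le]
  exacts [ker6_central, ker6_mem_commutator]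

theorem ker_proj6_equiv : Nonempty (proj6.ker ≃* Multiplicative (ZMod 6)) := by
  haveI : IsCyclic proj6.ker := by rw [ker_proj6]; infer_instance
  refine ⟨mulEquivOfCyclicCardEq ?_⟩
  rw [ker_proj6, Nat.card_zpowers, orderOf_ker6, Nat.card_congr Multiplicative.toAdd, Nat.card_zmod]

/-- The letters of a subgroup. -/
noncomputable def letters (xs : List ℕ) (s : ℕ) : G7 := x (xs.getD s mats.length)

/-- The bound for one prime. -/
theorem part {Γ : Type} [Group Γ] [Finite Γ] (σ : Γ →* G7) (hσ : Cfsg.IsStemExtension σ)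
    {C : Schur.Pc.Cert} {S : MTwelveCover.Span} {k : ℕ} {xs gs : List ℕ}
    {L : List (Row × List (List ℕ))} {q N : ℕ}
    (h1 : sylowOK C.rules C.fus C.fusW xs gs L C.n q = true)
    (h2 : MTwelveCover.spanOK C S k = true) (hq : C.p ^ C.n = q) (hq0 : 0 < q)
    (hN : q * N = 4585351680) :
    ∃ W ∈ σ.ker, W ^ k = 1 ∧ ∀ z ∈ σ.ker, z ^ N ∈ Subgroup.zpowers W := by
  obtain ⟨hrules, hfus, hcard⟩ := sylow_card h1
  haveI : Finite G7 := Finite.of_injective _ toM_injective
  obtain ⟨W, hW, hWk, hz⟩ := MTwelveCover.ker_pow_mem_zpowers C S k σ hσ h2 (letters xs) hrules hfus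
    (hq ▸ hcard)
  refine ⟨W, hW, hWk, fun z hzk => ?_⟩
  have hshape : Schur.Pc.shaped C.p C.n C.rules = true := by
    simp only [MTwelveCover.spanOK, Bool.and_eq_true] at h2
    exact h2.1.1.1.1.1.1
  have hS : Nat.card (tailSubgroup (letters xs) C.n 0) = q :=
    le_antisymm (hq ▸ Schur.Pc.card_tailSubgroup_le _ hshape hrules C.n 0 (Nat.zero_add _)) hcard
  have hidx := Subgroup.index_mul_card (tailSubgroup (letters xs) C.n 0)
  rw [hS, card_G7, ← hN, Nat.mul_comm] at hidx
  rw [← Nat.eq_of_mul_eq_mul_left hq0 hidx]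
  exact hz z hzk

theorem ev_replicate (n k : ℕ) : ev x (List.replicate n k) = x k ^ n := by
  induction n with
  | zero => rfl
  | succ n ih => rw [List.replicate_succ, Schur.Pc.ev_cons, ih, pow_succ']

theorem not_dvd_ker {p k N : ℕ} (hp : p.Prime) (hok : primeOK p k = true)
    (hN : p * N = 4585351680) (hNp : ¬ p ∣ N) {Γ : Type} [Group Γ] [Finite Γ] (σ : Γ →* G7)
    (hσ : Cfsg.IsStemExtension σ) : ¬ p ∣ Nat.card σ.ker := by
  haveI : Fact p.Prime := ⟨hp⟩
  simp only [primeOK, Bool.and_eq_true, beq_iff_eq] at hok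
  have h1 : x k ^ p = 1 := by
    rw [← ev_replicate]
    apply toM_injective
    rw [toM_ev, hok.1, toMat_one, map_one]
  have h2 : x k ≠ 1 := by
    intro e
    refine toMat_ne (el_word [k]).1.1 El.one.1 hok.2 ?_
    rw [← toM_ev, Schur.Pc.ev_cons, Schur.Pc.ev_nil, mul_one, e, map_one, toMat_one]
  have hidx : ¬ p ∣ (Subgroup.zpowers (x k)).index := by
    have h := Subgroup.index_mul_card (Subgroup.zpowers (x k))
    rw [Nat.card_zpowers, orderOf_eq_prime h1 h2, card_G7, ← hN, Nat.mul_comm] at h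
    rwa [Nat.eq_of_mul_eq_mul_left hp.pos h]
  exact Schur.not_dvd_card_ker_of_exponent_p
    (fun Γ' _ _ σ' hσ' hexp => Schur.ker_eq_bot_of_index_zpowers hp (x k) hidx σ' hσ' hexp) σ hσ

/-- The multiplier of `Ω₇(3)`. -/
theorem multiplier_omega : Cfsg.HasCyclicSchurMultiplier G7 6 := by
  refine ⟨⟨↥six, inferInstance, finite_six, proj6, isStemExtension_proj6, ker_proj6_equiv⟩, ?_⟩
  intro Γ _ _ σ hσ
  obtain ⟨A, hA, hA2, hAz⟩ := part σ hσ (N := 8955765) sylowTwo_ok spanTwo_ok rfl (by norm_num)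
    (by norm_num)
  obtain ⟨B, hB, hB3, hBz⟩ := part σ hσ (N := 232960) sylowThree_ok spanThree_ok rfl (by norm_num)
    (by norm_num)
  obtain ⟨c5, c7, c13⟩ := cyclic_ok
  have h5 := not_dvd_ker (N := 917070336) (by norm_num) c5 (by norm_num) (by norm_num) σ hσ
  have h7 := not_dvd_ker (N := 655050240) (by norm_num) c7 (by norm_num) (by norm_num) σ hσ
  have h13 := not_dvd_ker (N := 352719360) (by norm_num) c13 (by norm_num) (by norm_num) σ hσ
  have hcomm : Commute A B := ((Subgroup.mem_center_iff.1 (hσ.2.1 hA)) B).symm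
  have hW6 : (A * B) ^ 6 = 1 := by
    rw [hcomm.mul_pow, show 6 = 2 * 3 from rfl, pow_mul A, hA2, one_pow, one_mul,
      show 2 * 3 = 3 * 2 from rfl, pow_mul B, hB3, one_pow]
  have hAW : A ∈ Subgroup.zpowers (A * B) := by
    refine Subgroup.mem_zpowers_iff.2 ⟨((3 : ℕ) : ℤ), ?_⟩
    rw [zpow_natCast, hcomm.mul_pow, hB3, mul_one, pow_succ A, hA2, one_mul]
  have hBW : B ∈ Subgroup.zpowers (A * B) := by
    refine Subgroup.mem_zpowers_iff.2 ⟨((4 : ℕ) : ℤ), ?_⟩
    rw [zpow_natCast, hcomm.mul_pow, show 4 = 2 * 2 from rfl, pow_mul A, hA2, one_pow, one_mul,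
      show 2 * 2 = 3 + 1 from rfl, pow_succ B, hB3, one_mul]
  have hall : ∀ z ∈ σ.ker, z ∈ Subgroup.zpowers (A * B) := by
    intro z hz
    have hcop : (orderOf z).Coprime 455 := by
      have hd : orderOf z ∣ Nat.card σ.ker := by
        rw [show orderOf z = orderOf (⟨z, hz⟩ : σ.ker) from Subgroup.orderOf_coe ⟨z, hz⟩]
        exact orderOf_dvd_natCard _
      refine Nat.Coprime.coprime_dvd_left hd ?_
      rw [show 455 = 5 * (7 * 13) from rfl]
      exact Nat.Coprime.mul_right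
        ((by norm_num : Nat.Prime 5).coprime_iff_not_dvd.2 h5).symm
        (Nat.Coprime.mul_right
          ((by norm_num : Nat.Prime 7).coprime_iff_not_dvd.2 h7).symm
          ((by norm_num : Nat.Prime 13).coprime_iff_not_dvd.2 h13).symm)
    obtain ⟨m, hm⟩ := exists_pow_eq_self_of_coprime hcop.symm
    have h1 : z ^ 455 ∈ Subgroup.zpowers (A * B) := by
      have e : z ^ 455 = (z ^ 8955765) ^ (203 : ℤ) * (z ^ 232960) ^ (-7804 : ℤ) := by
        rw [← zpow_natCast, ← zpow_natCast z 8955765, ← zpow_natCast z 232960, ← _root_.zpow_mul,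
          ← _root_.zpow_mul, ← _root_.zpow_add]
        norm_num
      rw [e]
      exact Subgroup.mul_mem _
        (Subgroup.zpow_mem _ ((Subgroup.zpowers_le.2 hAW) (hAz z hz)) _)
        (Subgroup.zpow_mem _ ((Subgroup.zpowers_le.2 hBW) (hBz z hz)) _)
    have := Subgroup.pow_mem _ h1 m
    rwa [hm] at this
  have hW : A * B ∈ σ.ker := mul_mem hA hB
  have hWk : (⟨A * B, hW⟩ : σ.ker) ^ 6 = 1 := Subtype.ext hW6
  let f : ZMod 6 →+ Additive σ.ker := ZMod.lift 6
    ⟨zmultiplesHom (Additive σ.ker) (Additive.ofMul ⟨A * B, hW⟩), by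
      rw [zmultiplesHom_apply, ← ofMul_zpow, zpow_natCast, hWk, ofMul_one]⟩
  refine ⟨AddMonoidHom.toMultiplicativeLeft f, fun z => ?_⟩
  obtain ⟨j, hj⟩ := Subgroup.mem_zpowers_iff.1 (hall z.1 z.2)
  refine ⟨Multiplicative.ofAdd (j : ZMod 6), ?_⟩
  change Additive.toMul (f (j : ZMod 6)) = z
  rw [ZMod.lift_coe]
  simp only [zmultiplesHom_apply, ← ofMul_zpow]
  exact Subtype.ext (by simpa using hj)

theorem quadFormOdd_map {K F : Type*} [Field K] [Field F] (e : K ≃+* F) (m : ℕ)
    (v : Unit ⊕ (Fin m ⊕ Fin m) → K) :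
    Cfsg.quadFormOdd m F (fun i => e (v i)) = e (Cfsg.quadFormOdd m K v) := by
  simp [Cfsg.quadFormOdd, map_sum, map_mul, map_add]

universe u

/-- The multiplier of `PΩ₇(3)`. -/
theorem multiplier_pomega {F : Type u} [Field F] [Fintype F] (hF : Fintype.card F = 3) :
    Cfsg.HasCyclicSchurMultiplier (Cfsg.POmega F (Cfsg.quadFormOdd 3 F)) 6 := by
  obtain ⟨e⟩ := CfsgLib.OPlusEightTwo.pOmega_equiv (ZMod.ringEquivOfPrime F Nat.prime_three hF)
    (quadFormOdd_map _ 3)
  have h0 : Nonempty (G7 ≃* Cfsg.POmega (ZMod 3) (Cfsg.quadFormOdd 3 (ZMod 3))) := by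
    rw [← coe_oddQ]
    exact ⟨((QuotientGroup.quotientMulEquivOfEq center_bot).trans QuotientGroup.quotientBot).symm⟩
  obtain ⟨e0⟩ := h0
  exact CfsgLib.CoverTab.hasSchurMultiplier_transfer (e0.trans e) multiplier_omega

end CfsgLib.OmegaSevenMult
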