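import Cfsg.Agent.OmegaSeven.Checks
import Cfsg.Agent.CoverTab.Basic
import Cfsg.Agent.OmegaSevenMult.GroupData

/-!
# Coded elements of the seven dimensional orthogonal group over three elements: checks

Rows act on the right; a chain of orbits bounds the order of a subgroup from below.
-/

set_option autoImplicit false

namespace CfsgLib.OmegaSevenMult

open CfsgLib.OmegaSeven

/-- The matrix of the element number `k`. -/
def mat7 (k : ℕ) : List Row := mats.getD k oneC

/-- The matrix of a word. -/
def wordMat (w : List ℕ) : List Row := evalC mats w

/-- The image of a row under a word. -/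
def imgW (v : Row) (w : List ℕ) : Row := w.foldl (fun r k => comboR r (mat7 k) pos7) v

/-- The code of a row. -/
def keyR (r : Row) : ℕ :=
  ((List.range 7).map fun j => (rowVal r j).val * 3 ^ j).sum

/-- The generators are among the checked ones. -/
def genOK : Bool :=
  Nat.beq genIdx.length 6 && (List.range 6).all fun k => mat7 k == gens18.getD (genIdx.getD k 0) oneC

/-- The further elements are words in the earlier ones. -/
def defsOK : ℕ → List (List ℕ) → Bool
  | k, [] => Nat.beq k mats.length
  | k, w :: ws => (w.all fun j => Nat.blt j k) && wordMat w == mat7 k && defsOK (Nat.succ k) ws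

/-- A chain of orbits: each word fixes the earlier rows, the images of the row are distinct. -/
def chainOK : List Row → List (Row × List (List ℕ)) → Bool
  | _, [] => true
  | before, l :: rest =>
    okR l.1 && (l.2.all fun w => before.all fun u => imgW u w == u) &&
      CoverTab.nodupMask (l.2.map fun w => keyR (imgW l.1 w)) 0 &&
        chainOK (before ++ [l.1]) rest

/-- The product of the orbit lengths. -/
def chainCard (L : List (Row × List (List ℕ))) : ℕ := (L.map fun l => l.2.length).prod

/-- A word written in the letters `xs`. -/
def expandW (xs : List ℕ) (w : List ℕ) : List ℕ := w.map fun s => xs.getD s mats.length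

/-- A chain written in the letters `xs`. -/
def expandL (xs : List ℕ) (L : List (Row × List (List ℕ))) : List (Row × List (List ℕ)) :=
  L.map fun l => (l.1, l.2.map (expandW xs))

/-- The rules and fusions hold for the matrices. -/
def sylowOK (rules : List (List ℕ × List ℕ)) (fus : List (List (List ℕ) × List (List ℕ))) (W : ℕ)
    (xs gs : List ℕ) (L : List (Row × List (List ℕ))) (n N : ℕ) : Bool :=
  rules.all (fun l => wordMat (expandW xs l.1) == wordMat (expandW xs l.2)) &&
    ((List.range fus.length).all fun f => (List.range W).all fun s =>
      wordMat (gs.getD f mats.length :: expandW xs ((fus.getD f ([], [])).1.getD s [])) ==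
        wordMat (expandW xs ((fus.getD f ([], [])).2.getD s []) ++ [gs.getD f mats.length])) &&
    (L.all fun l => l.2.all fun w => w.all fun s => Nat.blt s n) &&
    chainOK [] (expandL xs L) && Nat.beq (chainCard L) N

/-- An element of prime order. -/
def primeOK (p k : ℕ) : Bool :=
  wordMat (List.replicate p k) == oneC && neM (wordMat [k]) oneC

end CfsgLib.OmegaSevenMult
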